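import Cfsg.Agent.HNOrder54.SigAll

/-!
The exact number of cosets in each node and the index of `⟨x, y, z⟩`.
-/

set_option autoImplicit false
set_option maxRecDepth 100000

namespace CfsgLib.HNOrder54

open CfsgLib.HN51

theorem cl0 : clSize nd0 0 = 1408 := by decide +kernel
theorem cl1_4 : clSize nd1 4 = 1 := by decide +kernel
theorem cl1_5 : clSize nd1 5 = 50 := by decide +kernel
theorem cl1_9 : clSize nd1 9 = 350 := by decide +kernel
theorem cl1_10 : clSize nd1 10 = 504 := by decide +kernel
theorem cl2_0 : clSize nd2 0 = 32 := by decide +kernel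
theorem cl2_1 : clSize nd2 1 = 32 := by decide +kernel
theorem cl3_1 : clSize nd3 1 = 2 := by decide +kernel
theorem cl5_4 : clSize nd5 4 = 4 := by decide +kernel
theorem cl5_13 : clSize nd5 13 = 144 := by decide +kernel
theorem cl5_14 : clSize nd5 14 = 360 := by decide +kernel
theorem cl6_4 : clSize nd6 4 = 2 := by decide +kernel
theorem cl7_11 : clSize nd7 11 = 10 := by decide +kernel
theorem cl7_17 : clSize nd7 17 = 24 := by decide +kernel
theorem cl8_3 : clSize nd8 3 = 160 := by decide +kernel
theorem cl9_0 : clSize nd9 0 = 1280 := by decide +kernel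

variable (hF : Faith) (hC : CFix)

include hF hC

theorem card_node1 : nodeCard 1 = 1408 := by
  have h := edge_nodeCard hF hC nd1_ok nd0_ok sig1 sig0 4 (ia := 4) (ib := 0)
    (by decide +kernel) (by decide +kernel) (by decide +kernel) cl1_4 cl0
  rw [show nd1.a = 1 from rfl, show nd0.a = 0 from rfl, nodeCard_zero] at h
  omega

theorem card_node2 : nodeCard 2 = 2200 := by
  have h := edge_nodeCard hF hC nd1_ok nd2_ok sig1 sig2 11 (ia := 5) (ib := 0)
    (by decide +kernel) (by decide +kernel) (by decide +kernel) cl1_5 cl2_0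
  rw [show nd1.a = 1 from rfl, show nd2.a = 2 from rfl, card_node1 hF hC] at h
  omega

theorem card_node3 : nodeCard 3 = 35200 := by
  have h := edge_nodeCard hF hC nd3_ok nd2_ok sig3 sig2 23 (ia := 1) (ib := 1)
    (by decide +kernel) (by decide +kernel) (by decide +kernel) cl3_1 cl2_1
  rw [show nd3.a = 3 from rfl, show nd2.a = 2 from rfl, card_node2 hF hC] at h
  omega

theorem card_node5 : nodeCard 5 = 123200 := by
  have h := edge_nodeCard hF hC nd5_ok nd1_ok sig5 sig1 48 (ia := 4) (ib := 9)
    (by decide +kernel) (by decide +kernel) (by decide +kernel) cl5_4 cl1_9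
  rw [show nd5.a = 5 from rfl, show nd1.a = 1 from rfl, card_node1 hF hC] at h
  omega

theorem card_node6 : nodeCard 6 = 354816 := by
  have h := edge_nodeCard hF hC nd6_ok nd1_ok sig6 sig1 75 (ia := 4) (ib := 10)
    (by decide +kernel) (by decide +kernel) (by decide +kernel) cl6_4 cl1_10
  rw [show nd6.a = 6 from rfl, show nd1.a = 1 from rfl, card_node1 hF hC] at h
  omega

theorem card_node7 : nodeCard 7 = 739200 := by
  have h := edge_nodeCard hF hC nd5_ok nd7_ok sig5 sig7 136 (ia := 13) (ib := 17)
    (by decide +kernel) (by decide +kernel) (by decide +kernel) cl5_13 cl7_17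
  rw [show nd5.a = 5 from rfl, show nd7.a = 7 from rfl, card_node5 hF hC] at h
  omega

theorem card_node8 : nodeCard 8 = 277200 := by
  have h := edge_nodeCard hF hC nd8_ok nd5_ok sig8 sig5 185 (ia := 3) (ib := 14)
    (by decide +kernel) (by decide +kernel) (by decide +kernel) cl8_3 cl5_14
  rw [show nd8.a = 8 from rfl, show nd5.a = 5 from rfl, card_node5 hF hC] at h
  omega

theorem card_node9 : nodeCard 9 = 5775 := by
  have h := edge_nodeCard hF hC nd7_ok nd9_ok sig7 sig9 208 (ia := 11) (ib := 0)
    (by decide +kernel) (by decide +kernel) (by decide +kernel) cl7_11 cl9_0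
  rw [show nd7.a = 7 from rfl, show nd9.a = 9 from rfl, card_node7 hF hC] at h
  omega

/-- the index of `⟨x, y, z⟩`, given that the nodes cover the group -/
theorem index_eq (hcov : Covered) : Nsub.index = 1539000 := by
  have hL : ∀ j : Fin 9, nodeCard (alive j) =
      ![1, 1408, 2200, 35200, 123200, 354816, 739200, 277200, 5775] j := by
    intro j
    fin_cases j
    · exact nodeCard_zero
    · exact card_node1 hF hC
    · exact card_node2 hF hC
    · exact card_node3 hF hC
    · exact card_node5 hF hC
    · exact card_node6 hF hC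
    · exact card_node7 hF hC
    · exact card_node8 hF hC
    · exact card_node9 hF hC
  rw [index_sum hF hC hcov _ hL (by decide)]
  decide

end CfsgLib.HNOrder54
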