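import Cfsg.Agent.HNOrder54.Index
import Cfsg.Agent.Eq.Def_Sporadic

/-!
Simplicity of the presented Harada–Norton group from the coset count and the structure of
`⟨x, y, z⟩`.
-/

set_option autoImplicit false
set_option maxRecDepth 100000

namespace CfsgLib.HNOrder54

open MulAction CfsgLib.HN51

/-- the square of `x` is central in `⟨x, y, z⟩` and lies in every nontrivial normal subgroup of it -/
def NormalProp : Prop :=
  (∀ n ∈ Nsub, Commute (X * X) n) ∧
    ∀ K : Subgroup ↥Nsub, K.Normal → (⟨X * X, mul_mem X_mem X_mem⟩ : ↥Nsub) ∉ K → K = ⊥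

theorem gens_top : Subgroup.closure ({X, Y, Z, T} : Set Cfsg.Spor.HN) = ⊤ := by
  rw [eq_top_iff, ← PresentedGroup.closure_range_of rels, Subgroup.closure_le]
  rintro _ ⟨g, rfl⟩
  refine Subgroup.subset_closure ?_
  cases g
  · exact Or.inl rfl
  · exact Or.inr (Or.inl rfl)
  · exact Or.inr (Or.inr (Or.inl rfl))
  · exact Or.inr (Or.inr (Or.inr rfl))

theorem sum_divides_cases : ∀ J : Finset (Fin 9), 0 ∈ J →
    (∑ j ∈ J, ![1, 1408, 2200, 35200, 123200, 354816, 739200, 277200, 5775] j) ∣ 1539000 →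
    J = {0} ∨ J = Finset.univ := by
  decide +kernel

theorem node_cards (hF : Faith) (hC : CFix) : ∀ j : Fin 9, nodeCard (alive j) =
    ![1, 1408, 2200, 35200, 123200, 354816, 739200, 277200, 5775] j := by
  intro j
  fin_cases j
  · exact nodeCard_zero
  · exact card_node1 hF hC
  · exact card_node2 hF hC
  · exact card_node3 hF hC
  · exact card_node5 hF hC
  · exact card_node6 hF hC
  · exact card_node7 hF hC
  · exact card_node8 hF hC
  · exact card_node9 hF hC

theorem cover_mem (hcov : Covered) (g : Cfsg.Spor.HN) :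
    ∃ j : Fin 9, ∃ m ∈ Nsub, ∃ n ∈ Nsub, g = m * ev (dw (alive j)) * n := by
  obtain ⟨a, ha, w, hw, e⟩ := hcov g
  obtain ⟨j, hj, rfl⟩ := List.getElem_of_mem ha
  rw [psi_eq] at e
  refine ⟨⟨j, hj⟩, _, e, ev w, ev_mem hw, ?_⟩
  rw [alive, List.getD_eq_getElem _ _ hj]
  simp [mul_assoc]

theorem maximal (hF : Faith) (hC : CFix) (hcov : Covered) (H : Subgroup Cfsg.Spor.HN)
    (hH : Nsub ≤ H) : H = Nsub ∨ H = ⊤ := by
  classical
  have : Finite ↥Nsub := finite_Nsub hF hC
  have hidx := index_eq hF hC hcov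
  let O : Fin 9 → Type := fun j => orbit ↥Nsub (((ev (dw (alive j)))⁻¹ : Cfsg.Spor.HN) :
    Cfsg.Spor.HN ⧸ Nsub)
  let J : Finset (Fin 9) := Finset.univ.filter fun j => ev (dw (alive j)) ∈ H
  let f : (Σ j : J, O j) → Cfsg.Spor.HN ⧸ Nsub := fun x => x.2.1
  have hinj : Function.Injective f := by
    rintro ⟨i, p, hp⟩ ⟨j, q, hq⟩ (h : p = q)
    subst h
    have e : nodeCard (alive i) = nodeCard (alive j) := by
      rw [nodeCard, nodeCard, ← orbit_eq_iff.2 hp, ← orbit_eq_iff.2 hq]
    rw [node_cards hF hC, node_cards hF hC] at e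
    obtain rfl : i = j := Subtype.ext ((show Function.Injective
      ![1, 1408, 2200, 35200, 123200, 354816, 739200, 277200, 5775] by decide) e)
    rfl
  have hrange : Set.range f = {q | ∃ h ∈ H, q = ((h : Cfsg.Spor.HN) : Cfsg.Spor.HN ⧸ Nsub)} := by
    ext q
    constructor
    · rintro ⟨⟨⟨j, hj⟩, p, n, rfl⟩, rfl⟩
      simp only [J, Finset.mem_filter] at hj
      exact ⟨(n : Cfsg.Spor.HN) * (ev (dw (alive j)))⁻¹, mul_mem (hH n.2) (inv_mem hj.2), rfl⟩
    · rintro ⟨h, hh, rfl⟩
      obtain ⟨j, m, hm, n, hn, e⟩ := cover_mem hcov h⁻¹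
      have hd : ev (dw (alive j)) ∈ H := by
        have e' : ev (dw (alive j)) = m⁻¹ * h⁻¹ * n⁻¹ := by rw [e]; group
        rw [e']
        exact mul_mem (mul_mem (inv_mem (hH hm)) (inv_mem hh)) (inv_mem (hH hn))
      refine ⟨⟨⟨j, by simp [J, hd]⟩, ⟨_, ⟨⟨n⁻¹, inv_mem hn⟩, rfl⟩⟩⟩, ?_⟩
      show ((n⁻¹ * (ev (dw (alive j)))⁻¹ : Cfsg.Spor.HN) : Cfsg.Spor.HN ⧸ Nsub) = _
      rw [QuotientGroup.eq, ← inv_inv h, e]
      simpa [mul_assoc] using inv_mem hm
  have hcard : Nat.card (Σ j : J, O j) = Nsub.relIndex H := by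
    have hstab : stabilizer ↥H (((1 : Cfsg.Spor.HN)) : Cfsg.Spor.HN ⧸ Nsub) = Nsub.subgroupOf H := by
      ext h
      rw [mem_stabilizer_iff, Subgroup.mem_subgroupOf]
      show (((h : Cfsg.Spor.HN) * 1 : Cfsg.Spor.HN) : Cfsg.Spor.HN ⧸ Nsub) = _ ↔ _
      rw [mul_one, eq_comm, QuotientGroup.eq, inv_one, one_mul]
    have horb : orbit ↥H (((1 : Cfsg.Spor.HN)) : Cfsg.Spor.HN ⧸ Nsub) = Set.range f := by
      rw [hrange]
      ext q
      constructor
      · rintro ⟨h, rfl⟩
        refine ⟨_, h.2, ?_⟩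
        show (((h : Cfsg.Spor.HN) * 1 : Cfsg.Spor.HN) : Cfsg.Spor.HN ⧸ Nsub) = _
        rw [mul_one]
      · rintro ⟨h, hh, rfl⟩
        refine ⟨⟨h, hh⟩, ?_⟩
        show (((h * 1 : Cfsg.Spor.HN)) : Cfsg.Spor.HN ⧸ Nsub) = _
        rw [mul_one]
    rw [Subgroup.relIndex, ← hstab, index_stabilizer, horb, ← Nat.card_coe_set_eq,
      Nat.card_range_of_injective hinj]
  have hO : ∀ j, Finite (O j) := fun j => (Set.finite_range _).to_subtype
  have hsum : Nsub.relIndex H =
      ∑ j ∈ J, ![1, 1408, 2200, 35200, 123200, 354816, 739200, 277200, 5775] j := by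
    rw [← hcard, Nat.card_sigma, Finset.univ_eq_attach, ← Finset.sum_attach J]
    exact Finset.sum_congr rfl fun j _ => node_cards hF hC j
  have hdvd : Nsub.relIndex H ∣ 1539000 := ⟨H.index, by
    rw [Subgroup.relIndex_mul_index hH, hidx]⟩
  have h0 : (0 : Fin 9) ∈ J := by
    simp only [J, Finset.mem_filter, Finset.mem_univ, true_and]
    rw [show ev (dw (alive 0)) = 1 from rfl]
    exact one_mem H
  rw [hsum] at hdvd
  rcases sum_divides_cases J h0 hdvd with hJ | hJ
  · rw [hJ, Finset.sum_singleton] at hsum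
    exact Or.inl (le_antisymm (Subgroup.relIndex_eq_one.1 hsum) hH)
  · refine Or.inr (eq_top_iff.2 fun g _ => ?_)
    obtain ⟨j, m, hm, n, hn, rfl⟩ := cover_mem hcov g
    have hj : j ∈ J := hJ ▸ Finset.mem_univ j
    simp only [J, Finset.mem_filter] at hj
    exact mul_mem (mul_mem (hH hm) hj.2) (hH hn)

/-- the presented group is simple -/
theorem simple (hF : Faith) (hC : CFix) (hcov : Covered) (hN : NormalProp) :
    IsSimpleGroup Cfsg.Spor.HN := by
  have hidx := index_eq hF hC hcov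
  have : Nontrivial Cfsg.Spor.HN := by
    by_contra h
    rw [not_nontrivial_iff_subsingleton] at h
    have : Nsub = ⊤ := Subsingleton.elim _ _
    rw [this, Subgroup.index_top] at hidx
    omega
  refine ⟨fun K hK => ?_⟩
  let π := QuotientGroup.mk' K
  have hker : ∀ g, π g = 1 ↔ g ∈ K := fun g => QuotientGroup.eq_one_iff g
  have rel : ∀ r ∈ Cfsg.Spor.HN.extra, π (PresentedGroup.mk rels r) = 1 := fun r hr => by
    rw [CfsgLib.HN51.mk_rel hr, map_one]
  by_cases hx : X * X ∈ K
  · right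
    have ex : π X * π X = 1 := by rw [← map_mul, hker]; exact hx
    have et : π T = 1 := by
      have h := congrArg π x_sq_conj
      rw [map_mul, map_mul, map_mul, map_mul, map_inv, map_inv, ex, mul_one,
        ← mul_inv_rev, ex, inv_one, one_mul, eq_inv_iff_mul_eq_one, ← pow_two] at h
      have h5 : π T ^ 5 = 1 := by rw [← map_pow, T_pow_five, map_one]
      calc π T = (π T ^ 2) ^ 3 * (π T ^ 5)⁻¹ := by group
        _ = 1 := by rw [h, h5]; group
    have ez : π Z = 1 := by
      have h := congrArg π ZT_cube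
      have h2 : π Z ^ 2 = 1 := by rw [← map_pow, Z_sq, map_one]
      rw [map_pow, map_mul, et, mul_one, map_one, pow_succ, h2, one_mul] at h
      exact h
    have ez' : π (PresentedGroup.mk rels Cfsg.Spor.HN.z) = 1 := ez
    have ex' : π (PresentedGroup.mk rels Cfsg.Spor.HN.x) = 1 := by
      have h := rel _ (List.getElem_mem (show 9 < Cfsg.Spor.HN.extra.length by decide))
      simp [Cfsg.Spor.HN.extra, map_mul, map_pow, map_inv, ez', mul_assoc] at h
      calc π (PresentedGroup.mk rels Cfsg.Spor.HN.x)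
          = π (PresentedGroup.mk rels Cfsg.Spor.HN.x) ^ 3 * (π X * π X)⁻¹ := by
            show _ = _ * (π (PresentedGroup.mk rels Cfsg.Spor.HN.x) *
              π (PresentedGroup.mk rels Cfsg.Spor.HN.x))⁻¹
            group
        _ = 1 := by rw [h, ex, inv_one, one_mul]
    have ey' : π (PresentedGroup.mk rels Cfsg.Spor.HN.y) = 1 := by
      have h3 := rel _ (List.getElem_mem (show 3 < Cfsg.Spor.HN.extra.length by decide))
      have h4 := rel _ (List.getElem_mem (show 4 < Cfsg.Spor.HN.extra.length by decide))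
      simp [Cfsg.Spor.HN.extra, map_mul, map_pow, map_inv, ex', ← pow_add, ← pow_mul] at h3 h4
      calc π (PresentedGroup.mk rels Cfsg.Spor.HN.y)
          = (π (PresentedGroup.mk rels Cfsg.Spor.HN.y) ^ 8) ^ 2 *
              (π (PresentedGroup.mk rels Cfsg.Spor.HN.y) ^ 15)⁻¹ := by group
        _ = 1 := by rw [h4, h3]; group
    rw [eq_top_iff, ← gens_top, Subgroup.closure_le]
    intro g hg
    rw [SetLike.mem_coe, ← hker]
    rcases hg with rfl | rfl | rfl | rfl
    exacts [ex', ey', ez, et]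
  · left
    have hKN : K.subgroupOf Nsub = ⊥ :=
      hN.2 _ (hK.subgroupOf Nsub) fun h => hx (Subgroup.mem_subgroupOf.1 h)
    have hKN' : ∀ g ∈ Nsub, g ∈ K → g = 1 := fun g hg hgK => by
      have : (⟨g, hg⟩ : ↥Nsub) ∈ (⊥ : Subgroup ↥Nsub) := hKN ▸ Subgroup.mem_subgroupOf.2 hgK
      exact congrArg Subtype.val (Subgroup.mem_bot.1 this)
    rcases maximal hF hC hcov (K ⊔ Nsub) le_sup_right with h | h
    · exact (Subgroup.eq_bot_iff_forall _).2 fun g hg =>
        hKN' g (h ▸ Subgroup.mem_sup_left hg) hg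
    · exfalso
      apply hx
      have hT : T ∈ K ⊔ Nsub := h ▸ Subgroup.mem_top T
      obtain ⟨k, hk, n, hn, e⟩ := Subgroup.mem_sup_of_normal_left.1 hT
      have ek : π k = 1 := (hker k).2 hk
      have eT : π T = π n := by rw [← e, map_mul, ek, one_mul]
      have hcomm : π n * π (X * X) = π (X * X) * π n := by
        rw [← map_mul, ← map_mul, (hN.1 n hn).eq]
      have h2 := congrArg π x_sq_conj
      rw [map_mul, map_mul π (X⁻¹ * X⁻¹), eT, map_inv π T, eT, mul_assoc, hcomm, ← mul_assoc,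
        ← map_mul, show X⁻¹ * X⁻¹ * (X * X) = 1 by group, map_one, one_mul,
        eq_inv_iff_mul_eq_one, ← pow_two] at h2
      have h5 : π n ^ 5 = 1 := by rw [← eT, ← map_pow, T_pow_five, map_one]
      have hn1 : π n = 1 := by
        calc π n = (π n ^ 2) ^ 3 * (π n ^ 5)⁻¹ := by group
          _ = 1 := by rw [h2, h5]; group
      have ez : π Z = 1 := by
        have h := congrArg π ZT_cube
        have h2 : π Z ^ 2 = 1 := by rw [← map_pow, Z_sq, map_one]
        rw [map_pow, map_mul, eT, hn1, mul_one, map_one, pow_succ, h2, one_mul] at h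
        exact h
      have hz1 : Z = 1 := hKN' Z Z_mem ((hker Z).1 ez)
      have h8 := rel _ (List.getElem_mem (show 8 < Cfsg.Spor.HN.extra.length by decide))
      have ez' : π (PresentedGroup.mk rels Cfsg.Spor.HN.z) = 1 := ez
      simp [Cfsg.Spor.HN.extra, map_mul, map_pow, map_inv, ez', mul_assoc] at h8
      rw [← hker, map_mul, ← pow_two]
      exact h8

/-- simplicity and order -/
theorem isHN (hF : Faith) (hC : CFix) (hcov : Covered) (hN : NormalProp)
    (hcard : Nat.card ↥Nsub = 177408000) : Cfsg.IsHN Cfsg.Spor.HN := by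
  refine ⟨simple hF hC hcov hN, ?_⟩
  rw [← Subgroup.card_mul_index Nsub, index_eq hF hC hcov, hcard]

end CfsgLib.HNOrder54
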