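import Cfsg.Agent.HNOrder54.Normal
import Cfsg.Agent.HNOrder54.Simple

/-!
The normal structure of `⟨x, y, z⟩` from the bound on the group of the first ten relators.
-/

set_option autoImplicit false

namespace CfsgLib.HNOrder54

open CfsgLib.HN51 CfsgLib.HNCover80

theorem normalProp (hb : TenBound) : NormalProp := by
  have hX : X * X = hg .x ^ 2 := (pow_two (hg .x)).symm
  refine ⟨fun n hn => hX ▸ sq_commute hb n (Sxyz_eq.symm ▸ hn), ?_⟩
  intro K hK hx
  let e : ↥Sxyz ≃* ↥Nsub := MulEquiv.subgroupCongr Sxyz_eq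
  have hb' := normal_bot hb (K.comap e.toMonoidHom) (hK.comap _) fun h hmem => by
    refine hx ?_
    have he : e ⟨hg .x ^ 2, h⟩ = ⟨X * X, mul_mem X_mem X_mem⟩ := Subtype.ext hX.symm
    exact he ▸ hmem
  exact Subgroup.comap_injective (f := e.toMonoidHom) e.surjective
    (hb'.trans (by rw [MonoidHom.comap_bot]; exact (MonoidHom.ker_eq_bot e.toMonoidHom e.injective).symm))

end CfsgLib.HNOrder54
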