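import Mathlib

/-!
Exact stabilisers along a chain of edges between double cosets, from a separating invariant.
-/

set_option autoImplicit false

namespace CfsgLib.HNOrder54

open MulAction

variable {G : Type*} [Group G] (N : Subgroup G)

/-- the elements of `N` fixing the coset `d⁻¹ N` -/
def stab (d : G) : Subgroup ↥N := stabilizer ↥N ((d⁻¹ : G) : G ⧸ N)

theorem mem_stab {d : G} {n : ↥N} : n ∈ stab N d ↔ d * (n : G) * d⁻¹ ∈ N := by
  rw [stab, mem_stabilizer_iff]
  show (((n : G) * d⁻¹ : G) : G ⧸ N) = ((d⁻¹ : G) : G ⧸ N) ↔ _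
  rw [eq_comm, QuotientGroup.eq, inv_inv, mul_assoc]

variable {N} {Ω : Type*} [MulAction ↥N Ω] {o : Ω} {β : Type*} {f : G → β}

/-- the data of an invariant: constant under `N` on the left and the stabiliser of `o` on the right -/
structure Inv (N : Subgroup G) (o : Ω) [MulAction ↥N Ω] (f : G → β) : Prop where
  left : ∀ n ∈ N, ∀ g, f (n * g) = f g
  right : ∀ c : ↥N, c • o = o → ∀ g, f (g * (c : G)) = f g

/-- the orbit of a point under the stabiliser of a node is a labelled class -/
theorem orbit_eq (hf : Inv N o f) {d : G} (K : Subgroup ↥N) (hK : K ≤ stab N d)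
    {I : Type*} (lab : Ω → I) (rep : I → ↥N)
    (hlab : ∀ p : Ω, ∃ k ∈ K, k • (rep (lab p) • o) = p)
    (i₀ : I) (hsep : ∀ i, i ≠ i₀ → f (d * (rep i : G)) ≠ f (d * (rep i₀ : G))) :
    orbit ↥(stab N d) (rep i₀ • o) = {p | lab p = i₀} := by
  ext p
  constructor
  · rintro ⟨n, rfl⟩
    obtain ⟨k, hk, hkp⟩ := hlab (n • (rep i₀ • o))
    by_contra hne
    refine hsep _ hne ?_
    set i := lab (n • (rep i₀ • o)) with hi
    set c : ↥N := (k * rep i)⁻¹ * ((n : ↥N) * rep i₀) with hc
    have hco : c • o = o := by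
      rw [hc, mul_smul, inv_smul_eq_iff, mul_smul, mul_smul]
      exact hkp.symm
    have hnd : d * ((n : ↥N) : G) * d⁻¹ ∈ N := (mem_stab N).1 n.2
    have hkd : d * (k : G) * d⁻¹ ∈ N := (mem_stab N).1 (hK hk)
    have h1 : f (d * ((n : ↥N) : G) * (rep i₀ : G)) = f (d * (rep i₀ : G)) := by
      have := hf.left _ hnd (d * (rep i₀ : G))
      simpa [mul_assoc] using this
    have h2 : f (d * (k : G) * (rep i : G)) = f (d * (rep i : G)) := by
      have := hf.left _ hkd (d * (rep i : G))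
      simpa [mul_assoc] using this
    have h3 : d * ((n : ↥N) : G) * (rep i₀ : G) = d * (k : G) * (rep i : G) * (c : G) := by
      rw [hc]
      simp [mul_assoc]
    rw [← h1, h3, hf.right c hco, h2]
  · intro hp
    obtain ⟨k, hk, hkp⟩ := hlab p
    rw [show lab p = i₀ from hp] at hkp
    exact ⟨⟨k, hK hk⟩, hkp⟩

/-- orbit length times stabiliser order -/
theorem card_stab [Finite ↥N] (H : Subgroup ↥N) (p : Ω) :
    Nat.card (orbit ↥H p) * Nat.card ↥(H ⊓ stabilizer ↥N p : Subgroup ↥N) = Nat.card ↥H := by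
  rw [← Nat.card_congr (orbitProdStabilizerEquivGroup ↥H p), Nat.card_prod]
  congr 1
  exact Nat.card_congr
    { toFun := fun x => ⟨⟨x.1, x.2.1⟩, x.2.2⟩
      invFun := fun x => ⟨x.1.1, x.1.2, x.2⟩
      left_inv := fun _ => rfl
      right_inv := fun _ => rfl }

/-- along an edge the orders of the stabilisers are in the ratio of the orbit lengths -/
theorem edge_card [Finite ↥N] {t : G} (ht : ∀ c : ↥N, c • o = o → Commute t (c : G))
    {a b : G} {u v : ↥N} {m : G} (hm : m ∈ N)
    (he : a * (u : G) * t = m * (b * (v : G))) :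
    Nat.card ↥(stab N b) * Nat.card (orbit ↥(stab N a) (u • o)) =
      Nat.card ↥(stab N a) * Nat.card (orbit ↥(stab N b) (v • o)) := by
  rw [← card_stab (stab N a) (u • o), ← card_stab (stab N b) (v • o)]
  have key : Nat.card ↥(stab N a ⊓ stabilizer ↥N (u • o) : Subgroup ↥N) =
      Nat.card ↥(stab N b ⊓ stabilizer ↥N (v • o) : Subgroup ↥N) := by
    have hfix : ∀ (w : ↥N) (n : ↥N), n ∈ stabilizer ↥N (w • o) ↔ (w⁻¹ * n * w) • o = o := by
      intro w n
      rw [mem_stabilizer_iff, mul_smul, mul_smul, inv_smul_eq_iff]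
    have hd : ∀ c : ↥N, c • o = o →
        (a * (u : G) * (c : G) * (u : G)⁻¹ * a⁻¹ ∈ N ↔ b * (v : G) * (c : G) * (v : G)⁻¹ * b⁻¹ ∈ N) := by
      intro c hc
      have e : a * (u : G) = m * (b * (v : G)) * t⁻¹ := eq_mul_inv_of_mul_eq he
      have h1 : a * (u : G) * (c : G) * (u : G)⁻¹ * a⁻¹ =
          m * (b * (v : G) * (c : G) * (v : G)⁻¹ * b⁻¹) * m⁻¹ := by
        rw [show a * (u : G) * (c : G) * (u : G)⁻¹ * a⁻¹ = a * (u : G) * (c : G) * (a * (u : G))⁻¹ by
          simp [mul_assoc], e]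
        have hct : t⁻¹ * (c : G) = (c : G) * t⁻¹ := (ht c hc).inv_left.eq
        calc m * (b * (v : G)) * t⁻¹ * (c : G) * (m * (b * (v : G)) * t⁻¹)⁻¹
            = m * (b * (v : G)) * (t⁻¹ * (c : G)) * t * (b * (v : G))⁻¹ * m⁻¹ := by
              simp [mul_assoc]
          _ = _ := by rw [hct]; simp [mul_assoc]
      rw [h1]
      constructor
      · intro h
        simpa [mul_assoc] using mul_mem (mul_mem (inv_mem hm) h) hm
      · exact fun h => mul_mem (mul_mem hm h) (inv_mem hm)
    refine Nat.card_congr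
      { toFun := fun x => ⟨v * (u⁻¹ * x.1 * u) * v⁻¹, ?_, ?_⟩
        invFun := fun x => ⟨u * (v⁻¹ * x.1 * v) * u⁻¹, ?_, ?_⟩
        left_inv := fun x => Subtype.ext (by simp [mul_assoc])
        right_inv := fun x => Subtype.ext (by simp [mul_assoc]) }
    · have hc : (u⁻¹ * x.1 * u) • o = o := (hfix u x.1).1 x.2.2
      have := (hd _ hc).1 (by simpa [mul_assoc] using (mem_stab N).1 x.2.1)
      exact (mem_stab N).2 (by simpa [mul_assoc] using this)
    · exact (hfix v _).2 (by simpa [mul_assoc] using (hfix u x.1).1 x.2.2)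
    · have hc : (v⁻¹ * x.1 * v) • o = o := (hfix v x.1).1 x.2.2
      have := (hd _ hc).2 (by simpa [mul_assoc] using (mem_stab N).1 x.2.1)
      exact (mem_stab N).2 (by simpa [mul_assoc] using this)
    · exact (hfix u _).2 (by simpa [mul_assoc] using (hfix v x.1).1 x.2.2)
  rw [key]
  ring

/-- the number of cosets in the orbit of a node times the stabiliser order -/
theorem card_node [Finite ↥N] (d : G) :
    Nat.card (orbit ↥N ((d⁻¹ : G) : G ⧸ N)) * Nat.card ↥(stab N d) = Nat.card ↥N := by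
  rw [← Nat.card_congr (orbitProdStabilizerEquivGroup ↥N ((d⁻¹ : G) : G ⧸ N)), Nat.card_prod]
  rfl

/-- nodes with pairwise different orbit lengths give a lower bound for the index -/
theorem sum_le_index [Finite (G ⧸ N)] {J : Type*} [Fintype J] (d : J → G) (L : J → ℕ)
    (hL : ∀ j, Nat.card (orbit ↥N (((d j)⁻¹ : G) : G ⧸ N)) = L j) (hinj : Function.Injective L) :
    ∑ j, L j ≤ N.index := by
  simp only [← hL]
  rw [← Nat.card_sigma, Subgroup.index]
  refine Nat.card_le_card_of_injective (fun x => x.2.1) ?_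
  rintro ⟨i, p, hp⟩ ⟨j, q, hq⟩ (h : p = q)
  subst h
  have : L i = L j := by
    rw [← hL i, ← hL j, ← orbit_eq_iff.2 hp, ← orbit_eq_iff.2 hq]
  obtain rfl := hinj this
  rfl

end CfsgLib.HNOrder54
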