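import Cfsg.Agent.HNOrder51.Replay
import Cfsg.Agent.HNOrder54.PtData

/-!
The points of the table as cosets of the centraliser of `t` in `⟨x, y, z⟩`.
-/

set_option autoImplicit false
set_option maxRecDepth 100000

namespace CfsgLib.HNOrder54

open MulAction CfsgLib.HN51

/-- a word from its code -/
def decW : ℕ → ℕ → List ℕ
  | 0, _ => []
  | f + 1, x => bif Nat.ble x 1 then [] else (x % 8) :: decW f (x / 8)

/-- a word leading from the point `0` to the point `p` -/
def sw (p : ℕ) : List ℕ := decW 12 ((sTab >>> (40 * p)) % 2 ^ 40)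

/-- the words lead to their points -/
def swOK (p : ℕ) : Bool := isN (sw p) && Nat.beq (run 0 (sw p)) p

/-- the letters permute the points -/
def invOK (p : ℕ) : Bool := (List.range 5).all fun a =>
  Nat.blt (act p a) 1408 && Nat.beq (act (act p a) (linv a)) p

theorem sw_all : (List.range 1408).all swOK = true := by decide +kernel

theorem inv_all : (List.range 1408).all invOK = true := by decide +kernel

theorem sw_isN {p : ℕ} (hp : p < 1408) : isN (sw p) = true := by
  have h := List.all_eq_true.mp sw_all p (List.mem_range.mpr hp)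
  simp only [swOK, Bool.and_eq_true] at h
  exact h.1

theorem run_sw {p : ℕ} (hp : p < 1408) : run 0 (sw p) = p := by
  have h := List.all_eq_true.mp sw_all p (List.mem_range.mpr hp)
  simp only [swOK, Bool.and_eq_true, Nat.beq_eq] at h
  exact h.2

theorem act_spec {p a : ℕ} (hp : p < 1408) (ha : a < 5) :
    act p a < 1408 ∧ act (act p a) (linv a) = p := by
  have h := List.all_eq_true.mp inv_all p (List.mem_range.mpr hp)
  simp only [invOK, List.all_eq_true, List.mem_range, Bool.and_eq_true, Nat.blt_eq, Nat.beq_eq]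
    at h
  exact h a ha

theorem linv_linv {a : ℕ} (ha : a < 5) : linv (linv a) = a := by
  interval_cases a <;> rfl

theorem run_append (p : ℕ) (u w : List ℕ) : run p (u ++ w) = run (run p u) w := by
  simp [run, List.foldl_append]

theorem run_lt : ∀ {w : List ℕ} {p : ℕ}, isN w = true → p < 1408 → run p w < 1408
  | [], p, _, hp => hp
  | a :: w, p, hw, hp => by
    simp only [isN, List.all_cons, Bool.and_eq_true, Nat.blt_eq] at hw
    exact run_lt (w := w) (p := act p a) hw.2 (act_spec hp hw.1).1

theorem winv_cons (a : ℕ) (w : List ℕ) : winv (a :: w) = winv w ++ [linv a] := by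
  simp [winv]

theorem run_winv : ∀ {w : List ℕ} {p : ℕ}, isN w = true → p < 1408 → run (run p w) (winv w) = p
  | [], p, _, _ => rfl
  | a :: w, p, hw, hp => by
    simp only [isN, List.all_cons, Bool.and_eq_true, Nat.blt_eq] at hw
    have e : run p (a :: w) = run (act p a) w := rfl
    rw [e, winv_cons, run_append, run_winv hw.2 (act_spec hp hw.1).1]
    exact (act_spec hp hw.1).2

theorem winv_run : ∀ {w : List ℕ} {p : ℕ}, isN w = true → p < 1408 → run (run p (winv w)) w = p
  | [], p, _, _ => rfl
  | a :: w, p, hw, hp => by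
    simp only [isN, List.all_cons, Bool.and_eq_true, Nat.blt_eq] at hw
    have hq : run p (winv w) < 1408 := run_lt (isN_winv hw.2) hp
    show run (act (run p (winv (a :: w))) a) w = p
    rw [winv_cons, run_append]
    show run (act (act (run p (winv w)) (linv a)) a) w = p
    have := (act_spec hq (linv_lt hw.1)).2
    rw [linv_linv hw.1] at this
    rw [this, winv_run hw.2 hp]

/-- the centraliser of `t` in `⟨x, y, z⟩` -/
def cT : Subgroup ↥Nsub := (Subgroup.centralizer {T}).comap Nsub.subtype

theorem mem_cT {n : ↥Nsub} : n ∈ cT ↔ Commute (n : Cfsg.Spor.HN) T := by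
  show (n : Cfsg.Spor.HN) ∈ Subgroup.centralizer {T} ↔ _
  rw [Subgroup.mem_centralizer_singleton_iff]
  exact Iff.rfl

/-- the points -/
abbrev Pt : Type := ↥Nsub ⧸ cT

/-- the base point -/
def pt₀ : Pt := ((1 : ↥Nsub) : Pt)

theorem smul_pt₀ (n : ↥Nsub) : n • pt₀ = (n : Pt) := by
  show (((n * 1 : ↥Nsub)) : Pt) = _
  rw [mul_one]

theorem fix_pt₀ {n : ↥Nsub} : n • pt₀ = pt₀ ↔ Commute (n : Cfsg.Spor.HN) T := by
  rw [smul_pt₀, pt₀, eq_comm, QuotientGroup.eq, inv_one, one_mul, mem_cT]

/-- a word as an element of the subgroup -/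
noncomputable def en (w : List ℕ) : ↥Nsub :=
  if h : isN w = true then ⟨ev w, ev_mem h⟩ else 1

theorem en_val {w : List ℕ} (h : isN w = true) : (en w : Cfsg.Spor.HN) = ev w := by
  rw [en, dif_pos h]

theorem en_winv {w : List ℕ} (h : isN w = true) : en (winv w) = (en w)⁻¹ :=
  Subtype.ext (by rw [Subgroup.coe_inv, en_val (isN_winv h), en_val h, ev_winv h])

theorem en_append {u w : List ℕ} (hu : isN u = true) (hw : isN w = true) :
    en (u ++ w) = en u * en w :=
  Subtype.ext (by
    rw [Subgroup.coe_mul, en_val (isN_append hu hw), en_val hu, en_val hw, ev_append])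

theorem exists_en (n : ↥Nsub) : ∃ w, isN w = true ∧ en w = n := by
  obtain ⟨w, hw, e⟩ := exists_word n.2
  exact ⟨w, hw, Subtype.ext ((en_val hw).trans e)⟩

/-- the coset of a point of the table -/
noncomputable def pnt (p : ℕ) : Pt := (en (sw p))⁻¹ • pt₀

theorem pnt_zero : pnt 0 = pt₀ := by
  have h : sw 0 = [] := by decide +kernel
  have e : en [] = 1 := Subtype.ext (by rw [en_val (w := []) rfl]; rfl)
  rw [pnt, h, e, inv_one, one_smul]

theorem en_smul_pnt (hC : CFix) {w : List ℕ} {p : ℕ} (hw : isN w = true) (hp : p < 1408) :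
    (en w)⁻¹ • pnt p = pnt (run p w) := by
  set q := run p w with hq
  have hql : q < 1408 := run_lt hw hp
  have hs : isN (sw q ++ (winv w ++ winv (sw p))) = true :=
    isN_append (sw_isN hql) (isN_append (isN_winv hw) (isN_winv (sw_isN hp)))
  have h0 : run 0 (sw q ++ (winv w ++ winv (sw p))) = 0 := by
    rw [run_append, run_append, run_sw hql, hq, run_winv hw hp]
    conv_lhs => enter [1]; rw [← run_sw hp]
    exact run_winv (sw_isN hp) (by norm_num)
  have hc := hC _ hs h0
  rw [← en_val hs, ← fix_pt₀] at hc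
  rw [en_append (sw_isN hql) (isN_append (isN_winv hw) (isN_winv (sw_isN hp))),
    en_append (isN_winv hw) (isN_winv (sw_isN hp)), en_winv hw, en_winv (sw_isN hp),
    mul_smul, mul_smul] at hc
  rw [pnt, pnt, eq_inv_smul_iff]
  exact hc

theorem en_smul_pt₀ (hC : CFix) {w : List ℕ} (hw : isN w = true) :
    en w • pt₀ = pnt (run 0 (winv w)) := by
  rw [← en_smul_pnt hC (isN_winv hw) (by norm_num), pnt_zero, en_winv hw, inv_inv]

theorem pnt_surjective (hC : CFix) (x : Pt) : ∃ p < 1408, pnt p = x := by
  induction x using QuotientGroup.induction_on with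
  | _ n =>
    obtain ⟨w, hw, rfl⟩ := exists_en n
    exact ⟨_, run_lt (isN_winv hw) (by norm_num), (en_smul_pt₀ hC hw).symm.trans (smul_pt₀ _)⟩

end CfsgLib.HNOrder54
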