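import Cfsg.Agent.HN133.Rep

/-!
A function on the presented Harada–Norton group, read off from the 133-dimensional representation,
which is constant under `⟨x, y, z⟩` on the left and the centraliser of `t` in it on the right.
-/

set_option autoImplicit false
set_option maxRecDepth 100000

namespace CfsgLib.HNOrder54

open Cfsg.Spor Cfsg.Spor.HN CfsgLib.HN133

/-- the 133 by 133 matrices over the field with 29 elements -/
abbrev Mat := Matrix (Fin 133) (Fin 133) (ZMod 29)

/-- the generators as elements of the presented group -/
noncomputable def el (g : Gen) : Cfsg.Spor.HN := PresentedGroup.mk _ (FreeGroup.of g)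

/-- the subgroup generated by `x`, `y`, `z` -/
noncomputable def subN : Subgroup Cfsg.Spor.HN := Subgroup.closure {el .x, el .y, el .z}

theorem subN_eq : subN = (Subgroup.closure ({HN.x, HN.y, HN.z} : Set (FreeGroup Gen))).map
    (PresentedGroup.mk _) := by
  rw [MonoidHom.map_closure, subN]
  congr 1
  simp only [Set.image_insert_eq, Set.image_singleton]
  rfl

/-- the element of a letter -/
noncomputable def letter : ℕ → Cfsg.Spor.HN
  | 0 => el .x
  | 1 => (el .x)⁻¹
  | 2 => el .y
  | 3 => (el .y)⁻¹
  | 4 => el .z
  | _ => el .t

/-- the element of a list of letters -/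
noncomputable def elt (w : List ℕ) : Cfsg.Spor.HN := (w.map letter).prod

theorem rep_el (g : Gen) : rep (el g) = gen g := by
  rw [el, rep_mk, FreeGroup.lift_apply_of]

theorem rep_el_val (g : Gen) : (rep (el g) : Mat) = ((enc (g, true)).map M).prod := by
  rw [rep_el]
  rfl

theorem rep_el_inv_val (g : Gen) : ((rep (el g))⁻¹ : Matˣ).1 = ((enc (g, false)).map M).prod := by
  rw [rep_el]
  rfl

theorem rep_letter (a : ℕ) (ha : a < 6) : (rep (letter a) : Mat) = M a := by
  rcases a with _ | _ | _ | _ | _ | _ | n
  · exact (rep_el_val .x).trans (List.prod_singleton)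
  · show ((rep (el .x)⁻¹ : Matˣ) : Mat) = _
    rw [map_inv]
    exact (rep_el_inv_val .x).trans (List.prod_singleton)
  · exact (rep_el_val .y).trans (List.prod_singleton)
  · show ((rep (el .y)⁻¹ : Matˣ) : Mat) = _
    rw [map_inv]
    exact (rep_el_inv_val .y).trans (List.prod_singleton)
  · exact (rep_el_val .z).trans (List.prod_singleton)
  · exact (rep_el_val .t).trans (List.prod_singleton)
  · omega

/-- the letters are in range -/
def okW (w : List ℕ) : Bool := w.all fun a => Nat.blt a 6

theorem rep_elt : ∀ w : List ℕ, okW w = true → (rep (elt w) : Mat) = (w.map M).prod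
  | [], _ => by simp [elt]
  | a :: w, h => by
    simp only [okW, List.all_cons, Bool.and_eq_true] at h
    have hh := rep_elt w h.2
    have ha : a < 6 := Nat.le_of_ble_eq_true h.1
    rw [elt] at hh ⊢
    rw [List.map_cons, List.prod_cons, map_mul, Units.val_mul, hh, rep_letter a ha,
      List.map_cons, List.prod_cons]

/-- the inverse of a letter, as a list -/
def invL : ℕ → List ℕ
  | 0 => [1]
  | 1 => [0]
  | 2 => [3]
  | 3 => [2]
  | 4 => [4]
  | _ => [5, 5, 5, 5]

/-- the inverse word -/
def invW : List ℕ → List ℕ
  | [] => []
  | a :: w => invW w ++ invL a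

theorem inv_left (a : ℕ) (ha : a < 6) : ((invL a).map M).prod * M a = 1 := by
  have h := inverse_word (w := invL a ++ [a]) (by interval_cases a <;> decide)
  rwa [List.map_append, List.prod_append, List.map_singleton, List.prod_singleton] at h

theorem invW_left : ∀ w : List ℕ, okW w = true → ((invW w).map M).prod * (w.map M).prod = 1
  | [], _ => by simp [invW]
  | a :: w, h => by
    simp only [okW, List.all_cons, Bool.and_eq_true] at h
    have hh := invW_left w h.2
    have ha : a < 6 := Nat.le_of_ble_eq_true h.1
    rw [invW, List.map_append, List.prod_append, List.map_cons, List.prod_cons, mul_assoc,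
      ← mul_assoc ((invL a).map M).prod, inv_left a ha, one_mul, hh]

theorem rep_elt_inv (w : List ℕ) (h : okW w = true) :
    ((rep (elt w))⁻¹ : Matˣ).1 = ((invW w).map M).prod := by
  have h1 := invW_left w h
  rw [← rep_elt w h] at h1
  exact Units.inv_eq_of_mul_eq_one_left h1

/-- the image of `x²` -/
noncomputable def X2 : Matˣ := rep (el .x * el .x)

theorem X2_val : (X2 : Mat) = M 0 * M 0 := by
  rw [X2, map_mul, Units.val_mul]
  exact congrArg (fun m => m * m) (rep_letter 0 (by norm_num))

/-- the conjugate of the image of `x²` by an element -/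
noncomputable def U (g : Cfsg.Spor.HN) : Mat := (((rep g)⁻¹ * X2 * rep g : Matˣ) : Mat)

/-- the letters of an operator: `true` stands for `t`, `false` for `x²` -/
def opL : Bool → List ℕ
  | true => [5]
  | false => [0, 0]

/-- the operator of a list of blocks -/
noncomputable def op (A : List Bool) : Mat := ((A.flatMap opL).map M).prod

/-- the product of operators, each followed by a conjugate of `x²` -/
noncomputable def chain (V : Mat) : List (List Bool) → Mat
  | [] => 1
  | A :: L => op A * (V * chain V L)

/-- the invariants of a list of chains of operators -/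
noncomputable def sig (As : List (List (List Bool))) (g : Cfsg.Spor.HN) : List (ZMod 29) :=
  As.map fun L => (chain (U g) L).trace

theorem commY : sameS (runM matL [0, 0, 2]) (runM matL [2, 0, 0]) = true := by
  decide +kernel

theorem commZ : sameS (runM matL [0, 0, 4]) (runM matL [4, 0, 0]) = true := by
  decide +kernel

theorem prod_eq {w w' : List ℕ} (h : sameS (runM matL w) (runM matL w') = true) :
    (w.map M).prod = (w'.map M).prod :=
  rep_eq_of_same (rep_runM matL w fun x _ => shape_all x) (rep_runM matL w' fun x _ => shape_all x) h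

theorem units_comm {α : Type*} [Monoid α] (m : ℕ → α) (c : ℕ) {u v : αˣ}
    (hu : (u : α) = m 0 * m 0) (hv : (v : α) = m c)
    (h : ([0, 0, c].map m).prod = ([c, 0, 0].map m).prod) : Commute u v :=
  Units.ext (by simpa [hu, hv, mul_assoc] using h)

theorem x2_comm {n : Cfsg.Spor.HN} (hn : n ∈ subN) : Commute X2 (rep n) := by
  induction hn using Subgroup.closure_induction with
  | mem a ha =>
    rcases ha with rfl | rfl | rfl
    · exact ((Commute.refl (el .x)).mul_left (Commute.refl _)).map rep
    · exact units_comm M 2 X2_val (rep_letter 2 (by norm_num)) (prod_eq commY)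
    · exact units_comm M 4 X2_val (rep_letter 4 (by norm_num)) (prod_eq commZ)
  | one => rw [map_one]; exact Commute.one_right _
  | mul a b _ _ ha hb => rw [map_mul]; exact ha.mul_right hb
  | inv a _ ha =>
    rw [map_inv]
    show X2 * (rep a)⁻¹ = (rep a)⁻¹ * X2
    rw [eq_inv_mul_iff_mul_eq, ← mul_assoc, ← ha.eq, mul_inv_cancel_right]

theorem U_left {n : Cfsg.Spor.HN} (hn : n ∈ subN) (g : Cfsg.Spor.HN) : U (n * g) = U g := by
  have h : (rep (n * g))⁻¹ * X2 * rep (n * g) = (rep g)⁻¹ * X2 * rep g := by
    rw [map_mul, mul_inv_rev]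
    calc (rep g)⁻¹ * (rep n)⁻¹ * X2 * (rep n * rep g)
        = (rep g)⁻¹ * ((rep n)⁻¹ * (X2 * rep n)) * rep g := by simp only [mul_assoc]
      _ = (rep g)⁻¹ * X2 * rep g := by rw [(x2_comm hn).eq, inv_mul_cancel_left]
  rw [U, U, h]

theorem sig_left {n : Cfsg.Spor.HN} (hn : n ∈ subN) (As : List (List (List Bool)))
    (g : Cfsg.Spor.HN) : sig As (n * g) = sig As g := by
  simp only [sig, U_left hn]

theorem op_comm {c : Cfsg.Spor.HN} (hc : c ∈ subN) (ht : Commute (el .t) c) :
    ∀ A : List Bool, Commute (op A) (rep c : Mat)
  | [] => by simp [op]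
  | b :: A => by
    have hh := op_comm hc ht A
    rw [op] at hh ⊢
    rw [List.flatMap_cons, List.map_append, List.prod_append]
    refine Commute.mul_left ?_ hh
    have hT : Commute (M 5) (rep c : Mat) := by
      have h := congrArg (fun u : Matˣ => (u : Mat)) (ht.map rep).eq
      simp only [Units.val_mul] at h
      rw [show (rep (el .t) : Mat) = M 5 from rep_letter 5 (by norm_num)] at h
      exact h
    cases b
    · have h := congrArg (fun u : Matˣ => (u : Mat)) (x2_comm hc).eq
      simp only [Units.val_mul, X2_val] at h
      rw [opL, List.map_cons, List.map_cons, List.map_nil, List.prod_cons, List.prod_cons,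
        List.prod_nil, mul_one]
      exact h
    · rw [opL, List.map_cons, List.map_nil, List.prod_cons, List.prod_nil, mul_one]
      exact hT

theorem sig_right {c : Cfsg.Spor.HN} (hc : c ∈ subN) (ht : Commute (el .t) c)
    (As : List (List (List Bool))) (g : Cfsg.Spor.HN) : sig As (g * c) = sig As g := by
  refine List.map_congr_left fun L _ => ?_
  have e : U (g * c) = (((rep c)⁻¹ : Matˣ) : Mat) * U g * (rep c : Mat) := by
    simp only [U, map_mul, mul_inv_rev, Units.val_mul, mul_assoc]
  set ci : Mat := (((rep c)⁻¹ : Matˣ) : Mat) with hci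
  set cv : Mat := (rep c : Mat) with hcv
  have h1 : ci * cv = 1 := Units.inv_mul _
  have h2 : cv * ci = 1 := Units.mul_inv _
  have key : ∀ K : List (List Bool), chain (U (g * c)) K = ci * chain (U g) K * cv := by
    intro K
    induction K with
    | nil => rw [chain, chain, mul_one, h1]
    | cons A K ih =>
      have hS : op A * ci = ci * op A := ((op_comm hc ht A).units_inv_right).eq
      rw [chain, chain, ih, e, show op A * (ci * U g * cv * (ci * chain (U g) K * cv)) =
        op A * ci * U g * (cv * ci) * chain (U g) K * cv by simp only [mul_assoc], h2, hS]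
      simp only [mul_assoc, one_mul]
  rw [key, Matrix.trace_mul_comm, ← mul_assoc, h2, one_mul]

theorem mk_rel (i : ℕ) (hi : i < 14) :
    (PresentedGroup.mk _ (extra.getD i 1) : Cfsg.Spor.HN) = 1 := by
  refine PresentedGroup.one_of_mem (Set.mem_union_right _ ?_)
  show extra.getD i 1 ∈ extra
  rw [List.getD_eq_getElem extra 1 (show i < extra.length from hi)]
  exact List.getElem_mem _

theorem t_pow5 : el .t ^ 5 = 1 := by
  have := mk_rel 10 (by norm_num)
  rwa [show extra.getD 10 1 = HN.t ^ 5 from rfl, map_pow] at this

theorem elt_cons (a : ℕ) (w : List ℕ) : elt (a :: w) = letter a * elt w := by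
  rw [elt, elt, List.map_cons, List.prod_cons]

theorem elt_append (v w : List ℕ) : elt (v ++ w) = elt v * elt w := by
  rw [elt, elt, elt, List.map_append, List.prod_append]

theorem elt_invW : ∀ w : List ℕ, okW w = true → elt (invW w) = (elt w)⁻¹
  | [], _ => by simp [elt, invW]
  | a :: w, h => by
    simp only [okW, List.all_cons, Bool.and_eq_true] at h
    have hh := elt_invW w h.2
    have ha : a < 6 := Nat.le_of_ble_eq_true h.1
    rw [invW, elt_append, elt_cons, mul_inv_rev, hh]
    congr 1
    interval_cases a
    · simp [elt, invL, letter]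
    · simp [elt, invL, letter]
    · simp [elt, invL, letter]
    · simp [elt, invL, letter]
    · have := mk_rel 6 (by norm_num)
      rw [show extra.getD 6 1 = HN.z ^ 2 from rfl, map_pow, sq] at this
      simp only [elt, invL, List.map_cons, List.map_nil, List.prod_cons, List.prod_nil, mul_one]
      exact eq_inv_of_mul_eq_one_left this
    · simp only [elt, invL, List.map_cons, List.map_nil, List.prod_cons, List.prod_nil, mul_one]
      refine eq_inv_of_mul_eq_one_left ?_
      calc _ = el .t ^ 5 := by simp [letter, pow_succ, mul_assoc]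
        _ = 1 := t_pow5

/-- the slot of a packed row -/
def slot (X i : ℕ) : ℕ := (X >>> (34 * i)) % B

theorem slot_dig : ∀ (n : ℕ) (d : ℕ → ℕ), (∀ j, d j < B) → ∀ i < n, slot (dig n d) i = d i
  | 0, _, _, i, hi => absurd hi (Nat.not_lt_zero i)
  | n + 1, d, hd, 0, _ => by
    simp [slot, dig, Nat.add_mul_mod_self_left, Nat.mod_eq_of_lt (hd 0)]
  | n + 1, d, hd, i + 1, hi => by
    rw [slot, Nat.shiftRight_eq_div_pow, show 2 ^ (34 * (i + 1)) = B * 2 ^ (34 * i) by
      rw [Nat.mul_succ, pow_add, mul_comm], ← Nat.div_div_eq_div_mul, dig,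
      Nat.add_mul_div_left _ _ (by norm_num), Nat.div_eq_of_lt (hd 0), Nat.zero_add,
      ← Nat.shiftRight_eq_div_pow]
    exact slot_dig n (fun j => d (j + 1)) (fun j => hd (j + 1)) i (by omega)

/-- the trace read off from a state, not reduced -/
def trS (L : List (List ℕ)) : ℕ := ((List.range 133).map fun i => slot (get L i) i).sum

theorem trace_trS {L : List (List ℕ)} {P : Mat} (h : Rep L P) :
    P.trace = ((trS L : ℕ) : ZMod 29) := by
  rw [show trS L = ∑ i ∈ Finset.range 133, slot (get L i) i from rfl, Nat.cast_sum,
    Finset.sum_range]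
  show ∑ i, P i i = _
  refine Finset.sum_congr rfl fun i _ => ?_
  rw [h i, slot_dig 133 _ (fun j => ?_) i i.isLt, dif_pos i.isLt]
  · exact (ZMod.natCast_zmod_val _).symm
  · split
    · exact lt_trans (ZMod.val_lt _) (by norm_num)
    · norm_num

/-- one left step by a block -/
def stB (L : List (List ℕ)) : Bool → List (List ℕ)
  | true => stepM (matL 5) L
  | false => stepM (matL 0) (stepM (matL 0) L)

/-- the steps of an operator -/
def stA (L : List (List ℕ)) : List Bool → List (List ℕ)
  | [] => L
  | b :: A => stB (stA L A) b

theorem rep_stA {L : List (List ℕ)} {P : Mat} (h : Rep L P) :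
    ∀ A : List Bool, Rep (stA L A) (op A * P)
  | [] => by simpa [stA, op] using h
  | b :: A => by
    have hh := rep_stA h A
    rw [op, List.flatMap_cons, List.map_append, List.prod_append, mul_assoc, ← op]
    cases b
    · rw [opL, List.map_cons, List.map_cons, List.map_nil, List.prod_cons, List.prod_cons,
        List.prod_nil, mul_one, mul_assoc]
      exact rep_stepM (shape_all 0) (rep_stepM (shape_all 0) hh)
    · rw [opL, List.map_cons, List.map_nil, List.prod_cons, List.prod_nil, mul_one]
      exact rep_stepM (shape_all 5) hh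

/-- left steps by a word -/
def runF (L : List (List ℕ)) : List ℕ → List (List ℕ)
  | [] => L
  | x :: w => stepM (matL x) (runF L w)

theorem rep_runF {L : List (List ℕ)} {P : Mat} (h : Rep L P) :
    ∀ w : List ℕ, Rep (runF L w) ((w.map M).prod * P)
  | [] => by simpa [runF] using h
  | x :: w => by
    rw [List.map_cons, List.prod_cons, mul_assoc, runF]
    exact rep_stepM (shape_all x) (rep_runF h w)

/-- a chain computed from the word of the conjugate -/
def chainS (u : List ℕ) : List (List Bool) → List (List ℕ)
  | [] => oneS
  | A :: L => stA (runF (chainS u L) u) A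

theorem rep_chainS {u : List ℕ} {V : Mat} (hu : (u.map M).prod = V) :
    ∀ L : List (List Bool), Rep (chainS u L) (chain V L)
  | [] => rep_oneS
  | A :: L => by
    rw [chain, chainS, ← hu]
    exact rep_stA (rep_runF (hu.symm ▸ rep_chainS hu L) u) A

/-- the invariants of a word, computed -/
def sigW (As : List (List (List Bool))) (w : List ℕ) : List ℕ :=
  As.map fun L => trS (chainS (invW w ++ [0, 0] ++ w) L) % 29

theorem sig_word (As : List (List (List Bool))) (w : List ℕ) (hw : okW w = true) :
    sig As (elt w) = (sigW As w).map (Nat.cast : ℕ → ZMod 29) := by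
  have e : ((invW w ++ [0, 0] ++ w).map M).prod = U (elt w) := by
    rw [U, Units.val_mul, Units.val_mul, rep_elt_inv w hw, rep_elt w hw, X2_val,
      List.map_append, List.map_append, List.prod_append, List.prod_append, List.map_cons,
      List.map_cons, List.map_nil, List.prod_cons, List.prod_cons, List.prod_nil, mul_one]
  rw [sigW, sig, List.map_map]
  refine List.map_congr_left fun L _ => ?_
  show _ = ((trS (chainS _ L) % 29 : ℕ) : ZMod 29)
  rw [ZMod.natCast_mod]
  exact trace_trS (rep_chainS e L)

/-- comparison of invariant lists -/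
def sameL : List ℕ → List ℕ → Bool
  | [], [] => true
  | a :: l, b :: l' => Nat.beq a b && sameL l l'
  | _, _ => false

theorem sameL_self : ∀ l : List ℕ, sameL l l = true
  | [] => rfl
  | a :: l => by rw [sameL, Nat.beq_refl, sameL_self l]; rfl

theorem sig_ne {As : List (List (List Bool))} {v w : List ℕ} (hv : okW v = true) (hw : okW w = true)
    (h : sameL (sigW As v) (sigW As w) = false) : sig As (elt v) ≠ sig As (elt w) := by
  rw [sig_word As v hv, sig_word As w hw]
  intro e
  have key : ∀ u : List ℕ, ((sigW As u).map (Nat.cast : ℕ → ZMod 29)).map ZMod.val = sigW As u := by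
    intro u
    rw [sigW, List.map_map, List.map_map]
    refine List.map_congr_left fun L _ => ?_
    simp only [Function.comp_apply]
    rw [ZMod.val_natCast, Nat.mod_mod]
  have h' : sigW As v = sigW As w := by rw [← key v, ← key w, e]
  rw [h', sameL_self] at h
  exact Bool.noConfusion h

end CfsgLib.HNOrder54
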