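import Cfsg.Agent.HNOrder51.FactsOK
import Cfsg.Agent.HNOrder54.Pts
import Cfsg.Agent.HNOrder54.Chain
import Cfsg.Agent.HNOrder54.Sep

/-!
Classes of points under the stabiliser of a node, and their use for exact orbit lengths.
-/

set_option autoImplicit false
set_option maxRecDepth 100000

namespace CfsgLib.HNOrder54

open MulAction CfsgLib.HN51

/-- the data of a node: facts giving generators of the stabiliser, class representatives, and a
packed spanning forest -/
structure Node where
  a : ℕ
  gens : List ℕ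
  reps : List ℕ
  tab : ℕ

/-- the entry of a point -/
def Node.ent (nd : Node) (p : ℕ) : ℕ := (nd.tab >>> (40 * p)) % 2 ^ 40

/-- the class of a point -/
def Node.lab (nd : Node) (p : ℕ) : ℕ := nd.ent p % 256
/-- the parent of a point -/
def Node.par (nd : Node) (p : ℕ) : ℕ := nd.ent p / 256 % 2048
/-- the edge to the parent -/
def Node.edge (nd : Node) (p : ℕ) : ℕ := nd.ent p / 2 ^ 19 % 32
/-- the depth of a point -/
def Node.dep (nd : Node) (p : ℕ) : ℕ := nd.ent p / 2 ^ 24

/-- the representative of a class -/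
def Node.rp (nd : Node) (i : ℕ) : ℕ := nd.reps.getD i 0

/-- a generator read off from a fact -/
def gWord (fi : ℕ) : List ℕ := (facts.getD fi noFact).v ++ winv (facts.getD fi noFact).u

/-- the generators and their inverses -/
def Node.gg (nd : Node) : List (List ℕ) :=
  nd.gens.map gWord ++ (nd.gens.map gWord).map winv

/-- the facts are stabiliser facts -/
def genOK (a fi : ℕ) : Bool :=
  let f := facts.getD fi noFact
  Nat.blt fi 220 && !f.e && Nat.beq f.a a && Nat.beq f.b a && isN f.u && isN f.v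

/-- the forest is consistent at a point -/
def ptOK (nd : Node) (gg : List (List ℕ)) (p : ℕ) : Bool :=
  Nat.blt (nd.lab p) nd.reps.length &&
  bif Nat.beq (nd.dep p) 0 then Nat.beq (nd.rp (nd.lab p)) p
  else
    Nat.blt (nd.par p) 1408 && Nat.blt (nd.dep (nd.par p)) (nd.dep p) &&
      Nat.beq (nd.lab (nd.par p)) (nd.lab p) && Nat.blt (nd.edge p) gg.length &&
      Nat.beq (run (nd.par p) (gg.getD (nd.edge p) [])) p

/-- the data of a node are consistent -/
def okNode (nd : Node) : Bool :=
  nd.gens.all (genOK nd.a) &&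
  ((List.range nd.reps.length).all fun i => Nat.blt (nd.rp i) 1408) &&
  let gg := nd.gg
  (List.range 1408).all (ptOK nd gg)

/-- the group generated by the generators of a node -/
noncomputable def Node.grp (nd : Node) : Subgroup ↥Nsub :=
  Subgroup.closure {n | ∃ fi ∈ nd.gens, n = en (gWord fi)}

section

variable {nd : Node} (hn : okNode nd = true)

include hn

theorem gens_ok {fi : ℕ} (h : fi ∈ nd.gens) : genOK nd.a fi = true := by
  simp only [okNode, Bool.and_eq_true, List.all_eq_true] at hn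
  exact hn.1.1 fi h

theorem rp_lt {i : ℕ} (h : i < nd.reps.length) : nd.rp i < 1408 := by
  simp only [okNode, Bool.and_eq_true, List.all_eq_true, Nat.blt_eq, List.mem_range] at hn
  exact hn.1.2 i h

theorem pt_ok {p : ℕ} (hp : p < 1408) : ptOK nd nd.gg p = true := by
  simp only [okNode, Bool.and_eq_true, List.all_eq_true, List.mem_range] at hn
  exact hn.2 p hp

theorem lab_lt {p : ℕ} (hp : p < 1408) : nd.lab p < nd.reps.length := by
  have h := pt_ok hn hp
  simp only [ptOK, Bool.and_eq_true, Nat.blt_eq] at h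
  exact h.1

theorem gWord_isN {fi : ℕ} (h : fi ∈ nd.gens) : isN (gWord fi) = true := by
  have h := gens_ok hn h
  simp only [genOK, Bool.and_eq_true] at h
  exact isN_append h.2 (isN_winv h.1.2)

theorem gg_mem {g : List ℕ} (hg : g ∈ nd.gg) : isN g = true ∧ en g ∈ nd.grp := by
  rw [Node.gg, List.mem_append, List.map_map] at hg
  rcases hg with hg | hg <;> obtain ⟨fi, hfi, rfl⟩ := List.mem_map.1 hg
  · exact ⟨gWord_isN hn hfi, Subgroup.subset_closure ⟨fi, hfi, rfl⟩⟩
  · refine ⟨isN_winv (gWord_isN hn hfi), ?_⟩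
    rw [Function.comp_apply, en_winv (gWord_isN hn hfi)]
    exact inv_mem (Subgroup.subset_closure ⟨fi, hfi, rfl⟩)

theorem reach (hC : CFix) : ∀ p < 1408, ∃ k ∈ nd.grp, k • pnt (nd.rp (nd.lab p)) = pnt p := by
  suffices H : ∀ m, ∀ p < 1408, nd.dep p = m →
      ∃ k ∈ nd.grp, k • pnt (nd.rp (nd.lab p)) = pnt p from fun p hp => H _ p hp rfl
  intro m
  induction m using Nat.strong_induction_on with
  | _ m ih =>
    intro p hp hm
    have h := pt_ok hn hp
    simp only [ptOK, Bool.and_eq_true] at h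
    obtain ⟨_, h⟩ := h
    by_cases h0 : nd.dep p = 0
    · rw [show Nat.beq (nd.dep p) 0 = true from by rw [Nat.beq_eq]; exact h0, cond_true, Nat.beq_eq] at h
      exact ⟨1, one_mem _, by rw [h, one_smul]⟩
    · rw [show Nat.beq (nd.dep p) 0 = false from Bool.eq_false_iff.2 fun e => h0 (by rwa [Nat.beq_eq] at e),
        cond_false] at h
      simp only [Bool.and_eq_true, Nat.blt_eq, Nat.beq_eq] at h
      obtain ⟨⟨⟨⟨hx, hd⟩, hl⟩, he⟩, hr⟩ := h
      rw [List.getD_eq_getElem _ _ he] at hr
      obtain ⟨hg, hgm⟩ := gg_mem hn (List.getElem_mem he)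
      obtain ⟨k, hk, hkp⟩ := ih _ (hm ▸ hd) _ hx rfl
      rw [hl] at hkp
      exact ⟨_, mul_mem (inv_mem hgm) hk, by rw [mul_smul, hkp, en_smul_pnt hC hg hx, hr]⟩

theorem grp_le_stab (hF : Faith) (hC : CFix) : nd.grp ≤ stab Nsub (ev (dw nd.a)) := by
  rw [Node.grp, Subgroup.closure_le]
  rintro _ ⟨fi, hfi, rfl⟩
  have h := gens_ok hn hfi
  simp only [genOK, Bool.and_eq_true, Nat.blt_eq, Nat.beq_eq, Bool.not_eq_true'] at h
  obtain ⟨⟨⟨⟨⟨hi, he⟩, ha⟩, hb⟩, hu⟩, hv⟩ := h
  have hh := facts_hold hF hC fi (by omega)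
  rw [Holds, ha, hb, he, show te false = 1 from rfl, mul_one, psi_eq] at hh
  rw [SetLike.mem_coe, mem_stab, en_val (gWord_isN hn hfi), gWord, ev_append, ev_winv hu]
  simpa [mul_assoc] using inv_mem hh

end

end CfsgLib.HNOrder54
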