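import Cfsg.Agent.HNCover80.Final
import Cfsg.Agent.HNOrder51.Base

/-!
The square of `x` is central in `⟨x, y, z⟩` and lies in each of its nontrivial normal subgroups,
given the bound on the group of the first ten relators.
-/

set_option autoImplicit false

namespace CfsgLib.HNOrder54

open Cfsg Cfsg.Spor CfsgLib.HNCover80

theorem Sxyz_eq : Sxyz = CfsgLib.HN51.Nsub := by
  rw [CfsgLib.HN51.Nsub_eq]; rfl

theorem sq_commute (hb : TenBound) : ∀ n ∈ Sxyz, Commute (hg .x ^ 2) n := by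
  intro n hn
  obtain ⟨p, rfl⟩ : n ∈ toHN.range := (SetLike.ext_iff.1 toHN_range n).2 hn
  have hx : hg .x ∈ toHN.range :=
    (SetLike.ext_iff.1 toHN_range _).2 (Subgroup.subset_closure (by simp))
  obtain ⟨X, hX⟩ := hx
  have hs : toPerm' (X ^ 2) = 1 := by
    rw [show X ^ 2 = ⟨(hg .x ^ 2, 1), _⟩ from toHN_injective hb (by rw [map_pow, hX]; rfl)]
    exact toPerm'_sq
  have hc : toPerm' (p * X ^ 2 * p⁻¹) = 1 := by simp [map_mul, hs]
  have h := ker_toPerm' hb hc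
  rw [map_mul, map_mul, map_inv, map_pow, hX] at h
  rcases h with h | h
  · exact absurd (conj_eq_one_iff.1 h) x_sq_ne_one'
  · exact (mul_inv_eq_iff_eq_mul.1 h).symm

theorem normal_bot (hb : TenBound) (K : Subgroup ↥Sxyz) (hK : K.Normal)
    (hx : ∀ h : hg .x ^ 2 ∈ Sxyz, (⟨hg .x ^ 2, h⟩ : ↥Sxyz) ∉ K) : K = ⊥ := by
  let L : pairs →* ↥Sxyz := toHN.codRestrict Sxyz fun p =>
    (SetLike.ext_iff.1 toHN_range _).1 ⟨p, rfl⟩
  have hL : Function.Surjective L := fun s => by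
    obtain ⟨p, hp⟩ := (SetLike.ext_iff.1 toHN_range _).2 s.2
    exact ⟨p, Subtype.ext hp⟩
  set K' : Subgroup pairs := K.comap L with hK'
  have hKn : K'.Normal := hK.comap L
  have hsq : ∀ p : pairs, toHN p = hg .x ^ 2 → p ∉ K' := fun p hp hpK =>
    hx (hp ▸ (L p).2) (by
      rw [show (⟨hg .x ^ 2, _⟩ : ↥Sxyz) = L p from Subtype.ext hp.symm]
      exact hpK)
  have hker : ∀ p ∈ K', toPerm' p = 1 → toHN p = 1 := fun p hp h =>
    (ker_toPerm' hb h).resolve_right fun h2 => hsq p h2 hp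
  obtain ⟨J, hJ⟩ : ∃ J, J = K'.map toPerm' := ⟨_, rfl⟩
  have hJn : ∀ j ∈ J, ∀ g ∈ toPerm'.range, g * j * g⁻¹ ∈ J := by
    rw [hJ]
    rintro _ ⟨q, hq, rfl⟩ _ ⟨g, rfl⟩
    exact ⟨g * q * g⁻¹, hKn.conj_mem q hq g, by simp⟩
  have := HSCover.isSimpleGroup_K
  have hn : (J.subgroupOf HSCover.K).Normal := ⟨fun a ha g => by
    rw [Subgroup.mem_subgroupOf] at ha ⊢
    exact hJn _ ha _ (K_le_range g.2)⟩
  rcases hn.eq_bot_or_eq_top with h | h
  · rw [Subgroup.subgroupOf_eq_bot, disjoint_iff] at h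
    rw [Subgroup.eq_bot_iff_forall]
    intro s hs
    obtain ⟨p, rfl⟩ := hL s
    refine Subtype.ext (hker p hs (eq_one_of_commute fun k hk => ?_))
    have hr : toPerm' p ∈ J := hJ ▸ ⟨p, hs, rfl⟩
    have hgk := HSCover.gperm_mem hk
    have h1 : toPerm' p * HSCover.gperm k * (toPerm' p)⁻¹ * (HSCover.gperm k)⁻¹ ∈
        J ⊓ HSCover.K := by
      refine ⟨?_, HSCover.K.mul_mem (conj_mem_K ⟨p, rfl⟩ hgk) (HSCover.K.inv_mem hgk)⟩
      show _ * HSCover.gperm k * _ * (HSCover.gperm k)⁻¹ ∈ J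
      rw [mul_assoc (toPerm' p), mul_assoc (toPerm' p)]
      exact mul_mem hr (hJn _ (inv_mem hr) _ (K_le_range hgk))
    rw [h, Subgroup.mem_bot, mul_inv_eq_one, mul_inv_eq_iff_eq_mul] at h1
    exact h1
  · exfalso
    rw [Subgroup.subgroupOf_eq_top] at h
    let X : pairs := ⟨(hg .x, hperm 7), Subgroup.subset_closure (by simp)⟩
    let Y : pairs := ⟨(hg .y, hperm 8), Subgroup.subset_closure (by simp)⟩
    let Z : pairs := ⟨(hg .z, hperm 9), Subgroup.subset_closure (by simp)⟩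
    let w : pairs := Y * X * Y * X * Y ^ 2 * X * Y⁻¹
    have hw : toPerm' w ∈ HSCover.K := by
      have hX : toPerm' X ∈ HSCover.K := hperm_seven_mem
      have hY : toPerm' Y ∈ HSCover.K := hperm_eight_mem
      simp only [w, map_mul, map_inv, map_pow]
      exact mul_mem (mul_mem (mul_mem (mul_mem (mul_mem (mul_mem hY hX) hY) hX) (pow_mem hY 2)) hX)
        (inv_mem hY)
    obtain ⟨k, hk, hkw⟩ := Subgroup.mem_map.1 (hJ ▸ h hw)
    have hrel : toHN (Z⁻¹ * w⁻¹ * Z * w) = hg .x ^ 2 := by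
      obtain ⟨-, -, -, -, -, -, -, -, a9, -⟩ := hn_rels
      rw [mul_inv_eq_one] at a9
      simp only [w, map_mul, map_inv, map_pow]
      exact a9
    refine hsq (Z⁻¹ * k⁻¹ * Z * k) ?_ (mul_mem ?_ hk)
    · rw [← hrel]
      have hc : toPerm' (k⁻¹ * w) = 1 := by rw [map_mul, map_inv, hkw, inv_mul_cancel]
      have hcz : ∀ q : pairs, toHN (k⁻¹ * w) * toHN q = toHN q * toHN (k⁻¹ * w) := fun q => by
        rcases ker_toPerm' hb hc with e | e <;> rw [e]
        · rw [one_mul, mul_one]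
        · exact (sq_commute hb _ ((SetLike.ext_iff.1 toHN_range _).1 ⟨q, rfl⟩)).eq
      set c := k⁻¹ * w with hcdef
      rw [show w = k * c by rw [hcdef, mul_inv_cancel_left]]
      simp only [map_mul, map_inv, mul_inv_rev]
      have h1 := hcz (Z⁻¹)
      have h2 := hcz (k⁻¹ * Z * k)
      simp only [map_mul, map_inv] at h1 h2
      symm
      calc (toHN Z)⁻¹ * ((toHN c)⁻¹ * (toHN k)⁻¹) * toHN Z * (toHN k * toHN c)
          = (toHN Z)⁻¹ * (toHN c)⁻¹ * (((toHN k)⁻¹ * toHN Z * toHN k) * toHN c) := by group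
        _ = (toHN Z)⁻¹ * (toHN k)⁻¹ * toHN Z * toHN k := by rw [← h2]; group
    · exact (by simpa [mul_assoc] using hKn.conj_mem _ (inv_mem hk) Z⁻¹)

end CfsgLib.HNOrder54
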