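import Cfsg.Agent.HNOrder54.Points

/-!
Exact orbit lengths from classes separated by invariants of the representation.
-/

set_option autoImplicit false
set_option maxRecDepth 100000

namespace CfsgLib.HNOrder54

open MulAction CfsgLib.HN51

theorem subN_Nsub : subN = Nsub := subN_eq

theorem inv_sig (As : List (List (List Bool))) : Inv Nsub pt₀ (sig As) where
  left n hn g := sig_left (subN_Nsub.symm ▸ hn) As g
  right c hc g := sig_right (subN_Nsub.symm ▸ c.2) ((fix_pt₀.1 hc).symm) As g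

/-- the word of a double coset met at a class -/
def cWord (nd : Node) (i : ℕ) : List ℕ := dw nd.a ++ winv (sw (nd.rp i))

/-- the invariants of a class are as tabulated -/
def sigAt (nd : Node) (As : List (List (List Bool))) (E : List (List ℕ)) (i : ℕ) : Bool :=
  okW (cWord nd i) && sameL (sigW As (cWord nd i)) (E.getD i [])

/-- the tabulated invariants separate a class from the others -/
def sepAt (nd : Node) (E : List (List ℕ)) (i₀ : ℕ) : Bool :=
  (List.range nd.reps.length).all fun i =>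
    Nat.beq i i₀ || !sameL (E.getD i []) (E.getD i₀ [])

/-- the size of a class -/
def clSize (nd : Node) (i₀ : ℕ) : ℕ :=
  ((List.range 1408).filter fun p => Nat.beq (nd.lab p) i₀).length

theorem sameL_eq : ∀ {u v : List ℕ}, sameL u v = true → u = v
  | [], [], _ => rfl
  | [], _ :: _, h => absurd h (by simp [sameL])
  | _ :: _, [], h => absurd h (by simp [sameL])
  | a :: l, b :: l', h => by
    simp only [sameL, Bool.and_eq_true, Nat.beq_eq] at h
    rw [h.1, sameL_eq h.2]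

theorem card_fin_filter (n : ℕ) (f : ℕ → ℕ) (i : ℕ) :
    Nat.card {p : Fin n // f p = i} =
      ((List.range n).filter fun p => Nat.beq (f p) i).length := by
  have hnd : ((List.range n).filter fun p => Nat.beq (f p) i).Nodup :=
    List.nodup_range.filter _
  rw [← List.toFinset_card_of_nodup hnd, ← Nat.card_eq_finsetCard]
  refine Nat.card_congr
    { toFun := fun p => ⟨p.1.1, by simp [p.2, p.1.2]⟩
      invFun := fun p => ⟨⟨p.1, ?_⟩, ?_⟩
      left_inv := fun p => rfl
      right_inv := fun p => rfl }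
  · have := p.2
    simp only [List.mem_toFinset, List.mem_filter, List.mem_range] at this
    exact this.1
  · have := p.2
    simp only [List.mem_toFinset, List.mem_filter, Nat.beq_eq] at this
    exact this.2

theorem orbit_size (hF : Faith) (hC : CFix) {nd : Node} (hn : okNode nd = true)
    {As : List (List (List Bool))} {E : List (List ℕ)}
    (hE : ∀ i < nd.reps.length, sigAt nd As E i = true) {i₀ : ℕ} (hi : i₀ < nd.reps.length)
    (hs : sepAt nd E i₀ = true) {p : ℕ} (hp : p < 1408) (hl : nd.lab p = i₀) :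
    Nat.card (orbit ↥(stab Nsub (ev (dw nd.a))) (pnt p)) = clSize nd i₀ := by
  set eqv := Equiv.ofBijective _ (pnt_bijective hC) with heqv
  let lab : Pt → Fin nd.reps.length := fun x =>
    ⟨nd.lab (eqv.symm x).1, lab_lt hn (eqv.symm x).2⟩
  have hlabp : ∀ q (hq : q < 1408), (lab (pnt q)).1 = nd.lab q := by
    intro q hq
    have e : eqv.symm (pnt q) = ⟨q, hq⟩ := eqv.symm_apply_eq.2 rfl
    simp [lab, e]
  have horb := orbit_eq (f := sig As) (inv_sig As) nd.grp (grp_le_stab hn hF hC) lab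
    (fun i => (en (sw (nd.rp i)))⁻¹) (fun x => by
      obtain ⟨q, hq, rfl⟩ := pnt_surjective hC x
      obtain ⟨k, hk, hkq⟩ := reach hn hC q hq
      refine ⟨k, hk, ?_⟩
      rw [hlabp q hq]
      exact hkq) ⟨i₀, hi⟩ (fun i hne => by
      have key : ∀ j < nd.reps.length, ev (dw nd.a) * (((en (sw (nd.rp j)))⁻¹ : ↥Nsub) :
          Cfsg.Spor.HN) = elt (cWord nd j) ∧ okW (cWord nd j) = true ∧
          sigW As (cWord nd j) = E.getD j [] := by
        intro j hj
        have h := hE j hj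
        simp only [sigAt, Bool.and_eq_true] at h
        refine ⟨?_, h.1, sameL_eq h.2⟩
        have hw := sw_isN (rp_lt hn hj)
        rw [elt_ev _ h.1, cWord, ev_append, ev_winv hw, Subgroup.coe_inv, en_val hw]
      obtain ⟨e1, o1, s1⟩ := key i.1 i.2
      obtain ⟨e2, o2, s2⟩ := key i₀ hi
      rw [e1, e2]
      refine sig_ne o1 o2 ?_
      rw [s1, s2]
      have h := List.all_eq_true.mp hs i.1 (List.mem_range.mpr i.2)
      simp only [Bool.or_eq_true, Nat.beq_eq, Bool.not_eq_true'] at h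
      exact h.resolve_left fun e => hne (Fin.ext e))
  replace horb : orbit ↥(stab Nsub (ev (dw nd.a))) ((en (sw (nd.rp i₀)))⁻¹ • pt₀) =
      {x | lab x = ⟨i₀, hi⟩} := horb
  have hmem : pnt p ∈ orbit ↥(stab Nsub (ev (dw nd.a)))
      ((en (sw (nd.rp i₀)))⁻¹ • pt₀) := by
    rw [horb]
    exact Fin.ext ((hlabp p hp).trans hl)
  rw [orbit_eq_iff.2 hmem, horb, clSize, ← card_fin_filter 1408 nd.lab i₀]
  refine Nat.card_congr (eqv.subtypeEquiv fun q => ?_).symm
  show nd.lab q.1 = i₀ ↔ lab (pnt q.1) = ⟨i₀, hi⟩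
  rw [Fin.ext_iff, hlabp q.1 q.2]

/-- the number of cosets in a node -/
noncomputable def nodeCard (a : ℕ) : ℕ :=
  Nat.card (orbit ↥Nsub (((ev (dw a))⁻¹ : Cfsg.Spor.HN) : Cfsg.Spor.HN ⧸ Nsub))

/-- an edge fact with its class data at both ends -/
def edgeOK (fi : ℕ) (A B : Node) (ia ib : ℕ) : Bool :=
  let f := facts.getD fi noFact
  Nat.blt fi 220 && f.e && Nat.beq f.a A.a && Nat.beq f.b B.a && isN f.u && isN f.v &&
    Nat.beq (A.lab (run 0 (winv f.u))) ia && Nat.beq (B.lab (run 0 (winv f.v))) ib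

theorem edge_nodeCard (hF : Faith) (hC : CFix) {A B : Node} (hA : okNode A = true)
    (hB : okNode B = true) {AsA AsB : List (List (List Bool))} {EA EB : List (List ℕ)}
    (hEA : ∀ i < A.reps.length, sigAt A AsA EA i = true)
    (hEB : ∀ i < B.reps.length, sigAt B AsB EB i = true) (fi : ℕ) {ia ib : ℕ}
    (he : edgeOK fi A B ia ib = true) (hsa : sepAt A EA ia = true) (hsb : sepAt B EB ib = true)
    {ca cb : ℕ} (hca : clSize A ia = ca) (hcb : clSize B ib = cb) :
    nodeCard A.a * ca = nodeCard B.a * cb := by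
  have : Finite ↥Nsub := finite_Nsub hF hC
  simp only [edgeOK, Bool.and_eq_true, Nat.blt_eq, Nat.beq_eq] at he
  obtain ⟨⟨⟨⟨⟨⟨⟨hi, hfe⟩, ha⟩, hb⟩, hu⟩, hv⟩, hla⟩, hlb⟩ := he
  have hh := facts_hold hF hC fi (by omega)
  rw [Holds, ha, hb, hfe, show te true = T from rfl, psi_eq] at hh
  have hpa : run 0 (winv (facts.getD fi noFact).u) < 1408 := run_lt (isN_winv hu) (by norm_num)
  have hpb : run 0 (winv (facts.getD fi noFact).v) < 1408 := run_lt (isN_winv hv) (by norm_num)
  have h1 := edge_card (N := Nsub) (o := pt₀) (t := T) (a := ev (dw A.a)) (b := ev (dw B.a))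
    (u := en (facts.getD fi noFact).u) (v := en (facts.getD fi noFact).v)
    (fun c hc => (fix_pt₀.1 hc).symm) hh
    (by rw [en_val hu, en_val hv, inv_mul_cancel_right])
  rw [en_smul_pt₀ hC hu, en_smul_pt₀ hC hv] at h1
  erw [orbit_size hF hC hA hEA (by rw [← hla]; exact lab_lt hA hpa) hsa hpa hla,
    orbit_size hF hC hB hEB (by rw [← hlb]; exact lab_lt hB hpb) hsb hpb hlb] at h1
  rw [hca, hcb] at h1
  have ka := card_node (N := Nsub) (ev (dw A.a))
  have kb := card_node (N := Nsub) (ev (dw B.a))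
  have hpos : 0 < Nat.card ↥(stab Nsub (ev (dw B.a))) := Nat.card_pos
  refine Nat.eq_of_mul_eq_mul_right hpos ?_
  calc nodeCard A.a * ca * Nat.card ↥(stab Nsub (ev (dw B.a)))
      = nodeCard A.a * (Nat.card ↥(stab Nsub (ev (dw B.a))) * ca) := by ring
    _ = (nodeCard A.a * Nat.card ↥(stab Nsub (ev (dw A.a)))) * cb := by rw [h1]; ring
    _ = Nat.card ↥Nsub * cb := by rw [nodeCard, ka]
    _ = (nodeCard B.a * Nat.card ↥(stab Nsub (ev (dw B.a)))) * cb := by rw [nodeCard, kb]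
    _ = _ := by ring

theorem nodeCard_zero : nodeCard 0 = 1 := by
  have h : ((ev (dw 0))⁻¹ : Cfsg.Spor.HN) = 1 := by simp [dw, ev]
  rw [nodeCard, h, Nat.card_eq_one_iff_unique]
  have hfix : ∀ x ∈ orbit ↥Nsub (((1 : Cfsg.Spor.HN)) : Cfsg.Spor.HN ⧸ Nsub),
      x = (((1 : Cfsg.Spor.HN)) : Cfsg.Spor.HN ⧸ Nsub) := by
    rintro _ ⟨n, rfl⟩
    show (((n : Cfsg.Spor.HN) * 1 : Cfsg.Spor.HN) : Cfsg.Spor.HN ⧸ Nsub) = _
    rw [mul_one, QuotientGroup.eq, mul_one]
    exact inv_mem n.2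
  exact ⟨⟨fun x y => Subtype.ext ((hfix _ x.2).trans (hfix _ y.2).symm)⟩,
    ⟨⟨_, mem_orbit_self _⟩⟩⟩

/-- every coset lies in one of the nodes -/
def Covered : Prop := ∀ g : Cfsg.Spor.HN, ∃ a ∈ [0, 1, 2, 3, 5, 6, 7, 8, 9],
  ∃ w, isN w = true ∧ psi g = psi (ev (dw a) * ev w)

/-- the nodes by position -/
def alive (j : Fin 9) : ℕ := [0, 1, 2, 3, 5, 6, 7, 8, 9].getD j.1 0

theorem index_sum (hF : Faith) (hC : CFix) (hcov : Covered) (L : Fin 9 → ℕ)
    (hL : ∀ j, nodeCard (alive j) = L j) (hinj : Function.Injective L) :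
    Nsub.index = ∑ j, L j := by
  have : Finite ↥Nsub := finite_Nsub hF hC
  let f : (Σ j : Fin 9, orbit ↥Nsub (((ev (dw (alive j)))⁻¹ : Cfsg.Spor.HN) :
    Cfsg.Spor.HN ⧸ Nsub)) → Cfsg.Spor.HN ⧸ Nsub := fun x => x.2.1
  have hsurj : Function.Surjective f := by
    intro q
    obtain ⟨g, rfl⟩ := psi_surjective q
    obtain ⟨a, ha, w, hw, e⟩ := hcov g
    obtain ⟨j, hj, rfl⟩ := List.getElem_of_mem ha
    refine ⟨⟨⟨j, hj⟩, ⟨psi g, (en w)⁻¹, ?_⟩⟩, rfl⟩
    rw [e, psi, mul_inv_rev, alive, List.getD_eq_getElem _ _ hj]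
    show ((((((en w)⁻¹ : ↥Nsub) : Cfsg.Spor.HN) * (ev (dw _))⁻¹ : Cfsg.Spor.HN)) :
      Cfsg.Spor.HN ⧸ Nsub) = _
    rw [Subgroup.coe_inv, en_val hw]
  have hinjf : Function.Injective f := by
    rintro ⟨i, p, hp⟩ ⟨j, q, hq⟩ (h : p = q)
    subst h
    obtain rfl : i = j := hinj (by
      rw [← hL i, ← hL j, nodeCard, nodeCard, ← orbit_eq_iff.2 hp, ← orbit_eq_iff.2 hq])
    rfl
  have : ∀ j : Fin 9, Finite (orbit ↥Nsub (((ev (dw (alive j)))⁻¹ : Cfsg.Spor.HN) :
    Cfsg.Spor.HN ⧸ Nsub)) := fun j => (Set.finite_range _).to_subtype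
  rw [Subgroup.index, ← Nat.card_congr (Equiv.ofBijective f ⟨hinjf, hsurj⟩), Nat.card_sigma]
  exact Finset.sum_congr rfl fun j _ => hL j

end CfsgLib.HNOrder54
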