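import Cfsg.Agent.HNOrder54.NodeData

/-!
The table points are exactly the cosets of the centraliser of `t`; so `⟨x, y, z⟩` is finite.
-/

set_option autoImplicit false
set_option maxRecDepth 100000

namespace CfsgLib.HNOrder54

open MulAction CfsgLib.HN51

theorem letter_gen : ∀ a : ℕ, a < 6 → letter a = CfsgLib.HN51.gen a
  | 0, _ => rfl
  | 1, _ => rfl
  | 2, _ => rfl
  | 3, _ => rfl
  | 4, _ => rfl
  | 5, _ => rfl
  | n + 6, h => absurd h (by omega)

theorem elt_ev : ∀ w : List ℕ, okW w = true → elt w = ev w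
  | [], _ => rfl
  | a :: w, h => by
    simp only [okW, List.all_cons, Bool.and_eq_true, Nat.blt_eq] at h
    rw [elt_cons, ev_cons, letter_gen a h.1, elt_ev w (by simpa [okW] using h.2)]

theorem okW_isN {w : List ℕ} (h : isN w = true) : okW w = true := by
  simp only [isN, okW, List.all_eq_true, Nat.blt_eq] at h ⊢
  exact fun a ha => Nat.lt_succ_of_lt (h a ha)

/-- the element of the word does not commute with `t` in the representation -/
def sepT (w : List ℕ) : Bool :=
  okW w && !CfsgLib.HN133.sameS (CfsgLib.HN133.runM CfsgLib.HN133.matL (w ++ [5]))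
    (CfsgLib.HN133.runM CfsgLib.HN133.matL (5 :: w))

theorem not_commute_of_sepT {w : List ℕ} (hs : sepT w = true) : ¬ Commute (ev w) T := by
  simp only [sepT, Bool.and_eq_true, Bool.not_eq_true'] at hs
  intro hc
  rw [← elt_ev w hs.1, show T = elt [5] from ((elt_ev [5] rfl).trans (by simp [ev, gen])).symm] at hc
  apply CfsgLib.HN133.prod_ne hs.2
  have h1 : okW (w ++ [5]) = true := by
    simp only [okW, List.all_append, Bool.and_eq_true]
    exact ⟨hs.1, rfl⟩
  have h2 : okW (5 :: w) = true := by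
    simp only [okW, List.all_cons, Bool.and_eq_true]
    exact ⟨rfl, hs.1⟩
  rw [← rep_elt _ h1, ← rep_elt _ h2, show 5 :: w = [5] ++ w from rfl, elt_append, elt_append,
    hc.eq]

theorem nd1_sep : ((List.range' 1 10).all fun i => sepT (sw (nd1.rp i))) = true := by
  decide +kernel

theorem nd1_one : ((List.range 1408).all fun p =>
    !Nat.beq (nd1.lab p) 0 || Nat.beq p 0) = true := by
  decide +kernel

theorem nd1_fix : (nd1.gens.all fun fi => Nat.beq (run 0 (gWord fi)) 0) = true := by
  decide +kernel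

/-- only the point `0` is fixed by the centraliser of `t` -/
theorem eq_zero_of_pnt (hC : CFix) {p : ℕ} (hp : p < 1408) (h : pnt p = pt₀) : p = 0 := by
  have hgrp : nd1.grp ≤ stabilizer ↥Nsub pt₀ := by
    rw [Node.grp, Subgroup.closure_le]
    rintro _ ⟨fi, hfi, rfl⟩
    have hz := List.all_eq_true.mp nd1_fix fi hfi
    rw [Nat.beq_eq] at hz
    have hw := gWord_isN nd1_ok hfi
    rw [SetLike.mem_coe, mem_stabilizer_iff, fix_pt₀, en_val hw]
    exact hC _ hw hz
  obtain ⟨k, hk, hkp⟩ := reach nd1_ok hC p hp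
  rw [h, smul_eq_iff_eq_inv_smul, mem_stabilizer_iff.1 (inv_mem (hgrp hk))] at hkp
  have hl : nd1.lab p = 0 := by
    by_contra hne
    have hlt : nd1.lab p < 11 := lab_lt nd1_ok hp
    have hr := rp_lt nd1_ok (i := nd1.lab p) (lab_lt nd1_ok hp)
    have hs := List.all_eq_true.mp nd1_sep (nd1.lab p)
      (List.mem_range'_1.mpr ⟨by omega, by omega⟩)
    refine not_commute_of_sepT hs ?_
    rw [← en_val (sw_isN hr), ← fix_pt₀]
    rw [pnt, inv_smul_eq_iff] at hkp
    exact hkp.symm
  have h1 := List.all_eq_true.mp nd1_one p (List.mem_range.mpr hp)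
  rw [hl] at h1
  simpa using h1

theorem run_zero_of_commute (hC : CFix) {w : List ℕ} (hw : isN w = true)
    (hc : Commute (ev w) T) : run 0 w = 0 := by
  refine eq_zero_of_pnt hC (run_lt hw (by norm_num)) ?_
  rw [← en_smul_pnt hC hw (by norm_num), pnt_zero, inv_smul_eq_iff, eq_comm, fix_pt₀, en_val hw]
  exact hc

theorem pnt_injective (hC : CFix) {p q : ℕ} (hp : p < 1408) (hq : q < 1408)
    (h : pnt p = pnt q) : p = q := by
  have e := congrArg ((en (sw q)) • ·) h
  simp only [pnt, smul_smul, mul_inv_cancel, one_smul] at e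
  rw [← en_winv (sw_isN hp), ← en_append (sw_isN hq) (isN_winv (sw_isN hp))] at e
  rw [fix_pt₀, en_val (isN_append (sw_isN hq) (isN_winv (sw_isN hp)))] at e
  have h0 := run_zero_of_commute hC (isN_append (sw_isN hq) (isN_winv (sw_isN hp))) e
  rw [run_append, run_sw hq] at h0
  have := congrArg (fun r => run r (sw p)) h0
  simp only [winv_run (sw_isN hp) hq, run_sw hp] at this
  exact this.symm

theorem pnt_bijective (hC : CFix) : Function.Bijective fun p : Fin 1408 => pnt p := by
  refine ⟨fun p q h => Fin.ext (pnt_injective hC p.2 q.2 h), fun x => ?_⟩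
  obtain ⟨p, hp, e⟩ := pnt_surjective hC x
  exact ⟨⟨p, hp⟩, e⟩

theorem finite_Nsub (hF : Faith) (hC : CFix) : Finite ↥Nsub := by
  have : Finite Pt := Finite.of_surjective _ (pnt_bijective hC).2
  refine Finite.of_injective (fun (n : ↥Nsub) (i : Fin 5) => n⁻¹ • pnt (basePts.getD i 0))
    fun m n h => ?_
  obtain ⟨u, hu, rfl⟩ := exists_en m
  obtain ⟨v, hv, rfl⟩ := exists_en n
  refine Subtype.ext ?_
  rw [en_val hu, en_val hv]
  refine hF u v hu hv ?_
  simp only [same, List.all_eq_true, Nat.beq_eq]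
  intro b hb
  obtain ⟨i, hi, rfl⟩ := List.getElem_of_mem hb
  have hb' : basePts[i] < 1408 :=
    (show ∀ b ∈ basePts, b < 1408 by decide) _ (List.getElem_mem hi)
  have e := congrFun h ⟨i, hi⟩
  simp only [List.getD_eq_getElem _ _ hi, en_smul_pnt hC hu hb', en_smul_pnt hC hv hb'] at e
  exact pnt_injective hC (run_lt hu hb') (run_lt hv hb') e

end CfsgLib.HNOrder54
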