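import Cfsg.Agent.HNOrder54.SigData

/-! Generated: kernel evaluation of the invariants. -/

set_option autoImplicit false
set_option linter.style.longLine false
set_option Elab.async false
set_option maxRecDepth 100000

namespace CfsgLib.HNOrder54

theorem sig0_0 : sigAt nd0 fam0 val0 0 = true := by
  decide +kernel

theorem sig1_0 : sigAt nd1 fam1 val1 0 = true := by
  decide +kernel

theorem sig1_1 : sigAt nd1 fam1 val1 1 = true := by
  decide +kernel

theorem sig1_2 : sigAt nd1 fam1 val1 2 = true := by
  decide +kernel

theorem sig1_3 : sigAt nd1 fam1 val1 3 = true := by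
  decide +kernel

theorem sig1_4 : sigAt nd1 fam1 val1 4 = true := by
  decide +kernel

theorem sig1_5 : sigAt nd1 fam1 val1 5 = true := by
  decide +kernel

theorem sig1_6 : sigAt nd1 fam1 val1 6 = true := by
  decide +kernel

theorem sig1_7 : sigAt nd1 fam1 val1 7 = true := by
  decide +kernel

theorem sig1_8 : sigAt nd1 fam1 val1 8 = true := by
  decide +kernel

theorem sig1_9 : sigAt nd1 fam1 val1 9 = true := by
  decide +kernel

theorem sig1_10 : sigAt nd1 fam1 val1 10 = true := by
  decide +kernel

theorem sig2_0 : sigAt nd2 fam2 val2 0 = true := by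
  decide +kernel

theorem sig2_1 : sigAt nd2 fam2 val2 1 = true := by
  decide +kernel

theorem sig2_2 : sigAt nd2 fam2 val2 2 = true := by
  decide +kernel

theorem sig2_3 : sigAt nd2 fam2 val2 3 = true := by
  decide +kernel

theorem sig3_0 : sigAt nd3 fam3 val3 0 = true := by
  decide +kernel

theorem sig3_1 : sigAt nd3 fam3 val3 1 = true := by
  decide +kernel

theorem sig3_2 : sigAt nd3 fam3 val3 2 = true := by
  decide +kernel

theorem sig3_3 : sigAt nd3 fam3 val3 3 = true := by
  decide +kernel

theorem sig3_4 : sigAt nd3 fam3 val3 4 = true := by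
  decide +kernel

theorem sig3_5 : sigAt nd3 fam3 val3 5 = true := by
  decide +kernel

theorem sig3_6 : sigAt nd3 fam3 val3 6 = true := by
  decide +kernel

theorem sig3_7 : sigAt nd3 fam3 val3 7 = true := by
  decide +kernel

theorem sig3_8 : sigAt nd3 fam3 val3 8 = true := by
  decide +kernel

theorem sig3_9 : sigAt nd3 fam3 val3 9 = true := by
  decide +kernel

theorem sig3_10 : sigAt nd3 fam3 val3 10 = true := by
  decide +kernel

theorem sig3_11 : sigAt nd3 fam3 val3 11 = true := by
  decide +kernel

theorem sig3_12 : sigAt nd3 fam3 val3 12 = true := by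
  decide +kernel

theorem sig3_13 : sigAt nd3 fam3 val3 13 = true := by
  decide +kernel

theorem sig9_0 : sigAt nd9 fam9 val9 0 = true := by
  decide +kernel

theorem sig9_1 : sigAt nd9 fam9 val9 1 = true := by
  decide +kernel

end CfsgLib.HNOrder54
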