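import Cfsg.Agent.HNOrder54.SigData

/-! Generated: kernel evaluation of the invariants. -/

set_option autoImplicit false
set_option linter.style.longLine false
set_option Elab.async false
set_option maxRecDepth 100000

namespace CfsgLib.HNOrder54

theorem sig5_0 : sigAt nd5 fam5 val5 0 = true := by
  decide +kernel

theorem sig5_1 : sigAt nd5 fam5 val5 1 = true := by
  decide +kernel

theorem sig5_2 : sigAt nd5 fam5 val5 2 = true := by
  decide +kernel

theorem sig5_3 : sigAt nd5 fam5 val5 3 = true := by
  decide +kernel

theorem sig5_4 : sigAt nd5 fam5 val5 4 = true := by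
  decide +kernel

theorem sig5_5 : sigAt nd5 fam5 val5 5 = true := by
  decide +kernel

theorem sig5_6 : sigAt nd5 fam5 val5 6 = true := by
  decide +kernel

theorem sig5_7 : sigAt nd5 fam5 val5 7 = true := by
  decide +kernel

theorem sig5_8 : sigAt nd5 fam5 val5 8 = true := by
  decide +kernel

theorem sig5_9 : sigAt nd5 fam5 val5 9 = true := by
  decide +kernel

theorem sig5_10 : sigAt nd5 fam5 val5 10 = true := by
  decide +kernel

theorem sig5_11 : sigAt nd5 fam5 val5 11 = true := by
  decide +kernel

theorem sig5_12 : sigAt nd5 fam5 val5 12 = true := by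
  decide +kernel

theorem sig5_13 : sigAt nd5 fam5 val5 13 = true := by
  decide +kernel

theorem sig5_14 : sigAt nd5 fam5 val5 14 = true := by
  decide +kernel

theorem sig5_15 : sigAt nd5 fam5 val5 15 = true := by
  decide +kernel

end CfsgLib.HNOrder54
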