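import Cfsg.Agent.HNOrder54.SigData

/-! Generated: kernel evaluation of the invariants. -/

set_option autoImplicit false
set_option linter.style.longLine false
set_option Elab.async false
set_option maxRecDepth 100000

namespace CfsgLib.HNOrder54

theorem sig6_0 : sigAt nd6 fam6 val6 0 = true := by
  decide +kernel

theorem sig6_1 : sigAt nd6 fam6 val6 1 = true := by
  decide +kernel

theorem sig6_2 : sigAt nd6 fam6 val6 2 = true := by
  decide +kernel

theorem sig6_3 : sigAt nd6 fam6 val6 3 = true := by
  decide +kernel

theorem sig6_4 : sigAt nd6 fam6 val6 4 = true := by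
  decide +kernel

theorem sig6_5 : sigAt nd6 fam6 val6 5 = true := by
  decide +kernel

theorem sig6_6 : sigAt nd6 fam6 val6 6 = true := by
  decide +kernel

theorem sig6_7 : sigAt nd6 fam6 val6 7 = true := by
  decide +kernel

theorem sig6_8 : sigAt nd6 fam6 val6 8 = true := by
  decide +kernel

theorem sig6_9 : sigAt nd6 fam6 val6 9 = true := by
  decide +kernel

theorem sig6_10 : sigAt nd6 fam6 val6 10 = true := by
  decide +kernel

theorem sig6_11 : sigAt nd6 fam6 val6 11 = true := by
  decide +kernel

theorem sig6_12 : sigAt nd6 fam6 val6 12 = true := by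
  decide +kernel

theorem sig6_13 : sigAt nd6 fam6 val6 13 = true := by
  decide +kernel

theorem sig6_14 : sigAt nd6 fam6 val6 14 = true := by
  decide +kernel

theorem sig6_15 : sigAt nd6 fam6 val6 15 = true := by
  decide +kernel

theorem sig8_0 : sigAt nd8 fam8 val8 0 = true := by
  decide +kernel

theorem sig8_1 : sigAt nd8 fam8 val8 1 = true := by
  decide +kernel

theorem sig8_2 : sigAt nd8 fam8 val8 2 = true := by
  decide +kernel

theorem sig8_3 : sigAt nd8 fam8 val8 3 = true := by
  decide +kernel

theorem sig8_4 : sigAt nd8 fam8 val8 4 = true := by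
  decide +kernel

theorem sig8_5 : sigAt nd8 fam8 val8 5 = true := by
  decide +kernel

theorem sig8_6 : sigAt nd8 fam8 val8 6 = true := by
  decide +kernel

end CfsgLib.HNOrder54
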