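import Cfsg.Agent.HNOrder54.SigData

/-! Generated: kernel evaluation of the invariants. -/

set_option autoImplicit false
set_option linter.style.longLine false
set_option Elab.async false
set_option maxRecDepth 100000

namespace CfsgLib.HNOrder54

theorem sig7_0 : sigAt nd7 fam7 val7 0 = true := by
  decide +kernel

theorem sig7_1 : sigAt nd7 fam7 val7 1 = true := by
  decide +kernel

theorem sig7_2 : sigAt nd7 fam7 val7 2 = true := by
  decide +kernel

theorem sig7_3 : sigAt nd7 fam7 val7 3 = true := by
  decide +kernel

theorem sig7_4 : sigAt nd7 fam7 val7 4 = true := by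
  decide +kernel

theorem sig7_5 : sigAt nd7 fam7 val7 5 = true := by
  decide +kernel

theorem sig7_6 : sigAt nd7 fam7 val7 6 = true := by
  decide +kernel

theorem sig7_7 : sigAt nd7 fam7 val7 7 = true := by
  decide +kernel

end CfsgLib.HNOrder54
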