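import Cfsg.Agent.HNOrder54.SigData

/-! Generated: kernel evaluation of the invariants. -/

set_option autoImplicit false
set_option linter.style.longLine false
set_option Elab.async false
set_option maxRecDepth 100000

namespace CfsgLib.HNOrder54

theorem sig7_8 : sigAt nd7 fam7 val7 8 = true := by
  decide +kernel

theorem sig7_9 : sigAt nd7 fam7 val7 9 = true := by
  decide +kernel

theorem sig7_10 : sigAt nd7 fam7 val7 10 = true := by
  decide +kernel

theorem sig7_11 : sigAt nd7 fam7 val7 11 = true := by
  decide +kernel

theorem sig7_12 : sigAt nd7 fam7 val7 12 = true := by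
  decide +kernel

theorem sig7_13 : sigAt nd7 fam7 val7 13 = true := by
  decide +kernel

theorem sig7_14 : sigAt nd7 fam7 val7 14 = true := by
  decide +kernel

theorem sig7_15 : sigAt nd7 fam7 val7 15 = true := by
  decide +kernel

end CfsgLib.HNOrder54
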