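import Cfsg.Agent.HNOrder54.SigData

/-! Generated: kernel evaluation of the invariants. -/

set_option autoImplicit false
set_option linter.style.longLine false
set_option Elab.async false
set_option maxRecDepth 100000

namespace CfsgLib.HNOrder54

theorem sig7_23 : sigAt nd7 fam7 val7 23 = true := by
  decide +kernel

theorem sig7_24 : sigAt nd7 fam7 val7 24 = true := by
  decide +kernel

theorem sig7_25 : sigAt nd7 fam7 val7 25 = true := by
  decide +kernel

theorem sig7_26 : sigAt nd7 fam7 val7 26 = true := by
  decide +kernel

theorem sig7_27 : sigAt nd7 fam7 val7 27 = true := by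
  decide +kernel

theorem sig7_28 : sigAt nd7 fam7 val7 28 = true := by
  decide +kernel

theorem sig7_29 : sigAt nd7 fam7 val7 29 = true := by
  decide +kernel

end CfsgLib.HNOrder54
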