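import Cfsg.Agent.HNOrder54.SigA
import Cfsg.Agent.HNOrder54.SigB
import Cfsg.Agent.HNOrder54.SigC
import Cfsg.Agent.HNOrder54.SigD
import Cfsg.Agent.HNOrder54.SigE
import Cfsg.Agent.HNOrder54.SigF
import Cfsg.Agent.HNOrder54.SigG

/-! The invariants at every class. -/

set_option autoImplicit false
set_option linter.style.longLine false
set_option maxRecDepth 100000

namespace CfsgLib.HNOrder54

theorem sig0 : ∀ i < nd0.reps.length, sigAt nd0 fam0 val0 i = true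
  | 0, _ => sig0_0
  | k + 1, h => absurd (show k + 1 < 1 from h) (by omega)

theorem sig1 : ∀ i < nd1.reps.length, sigAt nd1 fam1 val1 i = true
  | 0, _ => sig1_0
  | 1, _ => sig1_1
  | 2, _ => sig1_2
  | 3, _ => sig1_3
  | 4, _ => sig1_4
  | 5, _ => sig1_5
  | 6, _ => sig1_6
  | 7, _ => sig1_7
  | 8, _ => sig1_8
  | 9, _ => sig1_9
  | 10, _ => sig1_10
  | k + 11, h => absurd (show k + 11 < 11 from h) (by omega)

theorem sig2 : ∀ i < nd2.reps.length, sigAt nd2 fam2 val2 i = true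
  | 0, _ => sig2_0
  | 1, _ => sig2_1
  | 2, _ => sig2_2
  | 3, _ => sig2_3
  | k + 4, h => absurd (show k + 4 < 4 from h) (by omega)

theorem sig3 : ∀ i < nd3.reps.length, sigAt nd3 fam3 val3 i = true
  | 0, _ => sig3_0
  | 1, _ => sig3_1
  | 2, _ => sig3_2
  | 3, _ => sig3_3
  | 4, _ => sig3_4
  | 5, _ => sig3_5
  | 6, _ => sig3_6
  | 7, _ => sig3_7
  | 8, _ => sig3_8
  | 9, _ => sig3_9
  | 10, _ => sig3_10
  | 11, _ => sig3_11
  | 12, _ => sig3_12
  | 13, _ => sig3_13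
  | k + 14, h => absurd (show k + 14 < 14 from h) (by omega)

theorem sig5 : ∀ i < nd5.reps.length, sigAt nd5 fam5 val5 i = true
  | 0, _ => sig5_0
  | 1, _ => sig5_1
  | 2, _ => sig5_2
  | 3, _ => sig5_3
  | 4, _ => sig5_4
  | 5, _ => sig5_5
  | 6, _ => sig5_6
  | 7, _ => sig5_7
  | 8, _ => sig5_8
  | 9, _ => sig5_9
  | 10, _ => sig5_10
  | 11, _ => sig5_11
  | 12, _ => sig5_12
  | 13, _ => sig5_13
  | 14, _ => sig5_14
  | 15, _ => sig5_15
  | k + 16, h => absurd (show k + 16 < 16 from h) (by omega)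

theorem sig6 : ∀ i < nd6.reps.length, sigAt nd6 fam6 val6 i = true
  | 0, _ => sig6_0
  | 1, _ => sig6_1
  | 2, _ => sig6_2
  | 3, _ => sig6_3
  | 4, _ => sig6_4
  | 5, _ => sig6_5
  | 6, _ => sig6_6
  | 7, _ => sig6_7
  | 8, _ => sig6_8
  | 9, _ => sig6_9
  | 10, _ => sig6_10
  | 11, _ => sig6_11
  | 12, _ => sig6_12
  | 13, _ => sig6_13
  | 14, _ => sig6_14
  | 15, _ => sig6_15
  | k + 16, h => absurd (show k + 16 < 16 from h) (by omega)

theorem sig7 : ∀ i < nd7.reps.length, sigAt nd7 fam7 val7 i = true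
  | 0, _ => sig7_0
  | 1, _ => sig7_1
  | 2, _ => sig7_2
  | 3, _ => sig7_3
  | 4, _ => sig7_4
  | 5, _ => sig7_5
  | 6, _ => sig7_6
  | 7, _ => sig7_7
  | 8, _ => sig7_8
  | 9, _ => sig7_9
  | 10, _ => sig7_10
  | 11, _ => sig7_11
  | 12, _ => sig7_12
  | 13, _ => sig7_13
  | 14, _ => sig7_14
  | 15, _ => sig7_15
  | 16, _ => sig7_16
  | 17, _ => sig7_17
  | 18, _ => sig7_18
  | 19, _ => sig7_19
  | 20, _ => sig7_20
  | 21, _ => sig7_21
  | 22, _ => sig7_22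
  | 23, _ => sig7_23
  | 24, _ => sig7_24
  | 25, _ => sig7_25
  | 26, _ => sig7_26
  | 27, _ => sig7_27
  | 28, _ => sig7_28
  | 29, _ => sig7_29
  | k + 30, h => absurd (show k + 30 < 30 from h) (by omega)

theorem sig8 : ∀ i < nd8.reps.length, sigAt nd8 fam8 val8 i = true
  | 0, _ => sig8_0
  | 1, _ => sig8_1
  | 2, _ => sig8_2
  | 3, _ => sig8_3
  | 4, _ => sig8_4
  | 5, _ => sig8_5
  | 6, _ => sig8_6
  | k + 7, h => absurd (show k + 7 < 7 from h) (by omega)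

theorem sig9 : ∀ i < nd9.reps.length, sigAt nd9 fam9 val9 i = true
  | 0, _ => sig9_0
  | 1, _ => sig9_1
  | k + 2, h => absurd (show k + 2 < 2 from h) (by omega)

end CfsgLib.HNOrder54
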