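import Cfsg.Agent.HNOrder54.Orbits

/-! Generated: the invariants used at each node and their values. -/

set_option autoImplicit false
set_option linter.style.longLine false
set_option maxRecDepth 100000

namespace CfsgLib.HNOrder54

/-- operators at node 0 -/
def fam0 : List (List (List Bool)) :=
  [[[true]]]

/-- values at node 0 -/
def val0 : List (List ℕ) :=
  [[21]]

/-- operators at node 1 -/
def fam1 : List (List (List Bool)) :=
  [[[true]],[[true,true,false]]]

/-- values at node 1 -/
def val1 : List (List ℕ) :=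
  [[21,22],[21,22],[21,22],[7,22],[21,17],[22,21],[22,7],[7,7],[22,7],[1,1],[25,3]]

/-- operators at node 2 -/
def fam2 : List (List (List Bool)) :=
  [[[true]]]

/-- values at node 2 -/
def val2 : List (List ℕ) :=
  [[22],[7],[1],[3]]

/-- operators at node 3 -/
def fam3 : List (List (List Bool)) :=
  [[[true,true,false]]]

/-- values at node 3 -/
def val3 : List (List ℕ) :=
  [[7],[21],[22],[22],[1],[3],[7],[3],[1],[22],[3],[1],[7],[3]]

/-- operators at node 5 -/
def fam5 : List (List (List Bool)) :=
  [[[true]],[[true,false]],[[true,true,false]]]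

/-- values at node 5 -/
def val5 : List (List ℕ) :=
  [[1,1,7],[22,22,1],[22,7,7],[1,3,21],[1,7,22],[3,3,3],[3,21,1],[0,3,7],[1,1,3],[0,7,3],[28,3,3],[28,3,1],[25,1,3],[25,3,3],[27,3,5],[0,5,3]]

/-- operators at node 6 -/
def fam6 : List (List (List Bool)) :=
  [[[true,true,false]]]

/-- values at node 6 -/
def val6 : List (List ℕ) :=
  [[3],[3],[3],[7],[22],[3],[3],[1],[3],[1],[3],[3],[3],[3],[5],[3]]

/-- operators at node 7 -/
def fam7 : List (List (List Bool)) :=
  [[[true]],[[true,true,false]],[[true],[true]]]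

/-- values at node 7 -/
def val7 : List (List ℕ) :=
  [[3,1,7],[1,3,21],[1,1,21],[0,7,0],[3,21,7],[0,3,0],[0,7,0],[0,3,0],[28,3,7],[0,1,0],[28,7,1],[28,5,7],[28,3,1],[28,3,7],[27,3,2],[27,5,2],[0,1,0],[25,1,8],[0,3,0],[28,3,7],[0,5,0],[28,3,1],[28,3,1],[28,3,1],[28,5,28],[27,3,2],[28,3,28],[28,3,1],[28,3,1],[27,3,2]]

/-- operators at node 8 -/
def fam8 : List (List (List Bool)) :=
  [[[true,true,false]]]

/-- values at node 8 -/
def val8 : List (List ℕ) :=
  [[3],[5],[3],[1],[3],[3],[5]]

/-- operators at node 9 -/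
def fam9 : List (List (List Bool)) :=
  [[[true]]]

/-- values at node 9 -/
def val9 : List (List ℕ) :=
  [[28],[1]]

end CfsgLib.HNOrder54
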